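import Mathlib
import Groth.Agent.GradedCechLib.Graded

/-!
# Flasque systems on the subsets of a finite set and gluing of compatible families
-/

set_option autoImplicit false
universe u

open CategoryTheory CategoryTheory.Limits GradedCechLib

noncomputable section

namespace PnTildeLib

variable {R : Type u} [CommRing R] {ι : Type} [Fintype ι] [DecidableEq ι] {L L' L'' : Sys R ι}

variable (L) in
/-- Sections killed at some indices lift to global ones killed at the same indices. -/
def Flasque : Prop :=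
  ∀ (D s : Finset ι) (z : L.obj s), (∀ i ∈ D, res L (Finset.subset_insert i s) z = 0) →
    ∃ v : L.obj ∅, res L (Finset.empty_subset s) v = z ∧
      ∀ i ∈ D, res L (Finset.empty_subset (insert i ∅)) v = 0

variable (L) in
/-- Compatible families come from global sections. -/
def Glue : Prop :=
  ∀ c : Cochain L 0, dd L 0 c = 0 → ∃ v : L.obj ∅, ∀ J, c J = res L (Finset.empty_subset (rng J)) v

variable (L) in
/-- A global section killed at every index. -/
def IsTor (v : L.obj ∅) : Prop := ∀ i, res L (Finset.empty_subset (insert i ∅)) v = 0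

theorem IsTor.res_eq_zero {v : L.obj ∅} (h : IsTor L v) (J : Fin 1 → ι) :
    res L (Finset.empty_subset (rng J)) v = 0 := by
  have hJ : insert (J 0) ∅ ⊆ rng J := fun x hx => by simp at hx; simp [rng, hx]
  rw [← res_res (Finset.empty_subset _) hJ, h, map_zero]

theorem compat {c : Cochain L 0} (hc : dd L 0 c = 0) (J K : Fin 1 → ι) {t : Finset ι} (hJ : rng J ⊆ t)
    (hK : rng K ⊆ t) : res L hJ (c J) = res L hK (c K) := by
  have h := congrFun hc ![K 0, J 0]
  rw [dd_apply, Fin.sum_univ_two, Pi.zero_apply] at h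
  simp only [Fin.val_zero, pow_zero, one_smul, Fin.val_one, pow_one, neg_smul] at h
  rw [← sub_eq_add_neg, sub_eq_zero] at h
  have hsub : rng (![K 0, J 0] : Fin 2 → ι) ⊆ t := fun x hx => by
    obtain ⟨a, -, rfl⟩ := Finset.mem_image.1 hx
    fin_cases a
    · exact hK (Finset.mem_image_of_mem _ (Finset.mem_univ _))
    · exact hJ (Finset.mem_image_of_mem _ (Finset.mem_univ _))
  have h' := congrArg (res L hsub) h
  rw [res_res, res_res] at h'
  have eJ : ![K 0, J 0] ∘ (0 : Fin 2).succAbove = J := funext fun a => by fin_cases a; rfl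
  have eK : ![K 0, J 0] ∘ (1 : Fin 2).succAbove = K := funext fun a => by fin_cases a; rfl
  rw [res_congr c eJ _ hJ, res_congr c eK _ hK] at h'
  exact h'

theorem dd_const (v : L.obj ∅) : dd L 0 (fun J => res L (Finset.empty_subset (rng J)) v) = 0 := by
  funext J
  rw [dd_apply, Fin.sum_univ_two, Pi.zero_apply]
  simp only [Fin.val_zero, pow_zero, one_smul, Fin.val_one, pow_one, neg_smul, res_res]
  exact add_neg_cancel _

theorem dd_map (φ : L ⟶ L') (p : ℕ) (c : Cochain L p) (J : Fin (p + 2) → ι) :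
    dd L' p (fun K => (φ.app (rng K)).hom (c K)) J = (φ.app (rng J)).hom (dd L p c J) := by
  rw [dd_apply, dd_apply, map_sum]
  exact Finset.sum_congr rfl fun k _ => by rw [map_zsmul, app_res]

theorem dd_dd (p : ℕ) (c : Cochain L p) : dd L (p + 1) (dd L p c) = 0 :=
  (cx_d (p + 1) (dd L p c)).symm.trans ((congrArg ((cx L).d (p + 1) (p + 2)).hom (cx_d p c).symm).trans
    (LinearMap.congr_fun (congrArg ModuleCat.Hom.hom ((cx L).d_comp_d p (p + 1) (p + 2))) c))

theorem exists_of_isZero (h : IsZero (H L 1)) (c : Cochain L 1) (hc : dd L 1 c = 0) :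
    ∃ b, dd L 0 b = c := by
  rw [← HomologicalComplex.exactAt_iff_isZero_homology, HomologicalComplex.exactAt_iff' _ 0 1 2 (by simp) (by simp),
    ShortComplex.moduleCat_exact_iff] at h
  obtain ⟨b, hb⟩ := h c ((cx_d (L := L) 1 c).trans hc)
  exact ⟨b, (cx_d (L := L) 0 b).symm.trans hb⟩

theorem Flasque.glue (h : Flasque L) : Glue L := fun c hc => by
  suffices ∀ D : Finset ι, ∃ v : L.obj ∅, ∀ J : Fin 1 → ι, J 0 ∈ D → c J = res L (Finset.empty_subset (rng J)) v by
    obtain ⟨v, hv⟩ := this Finset.univ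
    exact ⟨v, fun J => hv J (Finset.mem_univ _)⟩
  intro D
  induction D using Finset.induction_on with
  | empty => exact ⟨0, fun J hJ => absurd hJ (Finset.notMem_empty _)⟩
  | @insert l D _ ih =>
    obtain ⟨v, hv⟩ := ih
    let Jl : Fin 1 → ι := fun _ => l
    obtain ⟨w, hw, hwD⟩ := h D (rng Jl) (c Jl - res L (Finset.empty_subset _) v) fun i hi => by
      have hi' : rng (fun _ : Fin 1 => i) ⊆ insert i (rng Jl) := fun x hx => by simp [rng] at hx; simp [hx]
      rw [map_sub, compat hc Jl (fun _ => i) _ hi', hv _ hi, res_res, res_res, sub_self]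
    refine ⟨v + w, fun J hJ => ?_⟩
    rw [map_add]
    rcases Finset.mem_insert.1 hJ with hl | hl
    · have eJ : J = Jl := funext fun a => by fin_cases a; exact hl
      subst eJ
      rw [hw]
      abel
    · have hsub : insert (J 0) ∅ ⊆ rng J := fun x hx => by simp at hx; simp [rng, hx]
      rw [← res_res (Finset.empty_subset _) hsub w, hwD _ hl, map_zero, add_zero, hv J hl]

theorem Flasque.kerShift (h : Flasque L) (i : ι) : Flasque (kerSys (toShift L i)) := fun D s z hz => by
  obtain ⟨v, hv, hvD⟩ := h (insert i D) s z.1 fun j hj => by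
    rcases Finset.mem_insert.1 hj with rfl | hj
    · exact z.2
    · exact congrArg Subtype.val (hz j hj)
  exact ⟨⟨v, hvD i (Finset.mem_insert_self _ _)⟩, Subtype.ext hv,
    fun j hj => Subtype.ext (hvD j (Finset.mem_insert_of_mem hj))⟩

theorem isZero_of_flasque_of_support (T : Finset ι) : ∀ L : Sys R ι, Flasque L →
    (∀ s : Finset ι, ¬ s ⊆ T → Subsingleton (L.obj s)) → ∀ p, IsZero (H L (p + 1)) := by
  induction T using Finset.induction_on with
  | empty =>
    exact fun L _ hL p => isZero_of_subsingleton (fun s hs => hL s fun h => hs.ne_empty (Finset.subset_empty.1 h)) _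
  | @insert i T hi ih =>
    intro L hF hL p
    have hbij : ∀ s : Finset ι, i ∈ s → Function.Bijective ((toShift L i).app s).hom := fun s hs =>
      res_bijective_of_subset (L := L) (Finset.subset_insert i s) (Finset.insert_subset hs (le_refl s))
    have hsurj : ∀ s : Finset ι, Function.Surjective ((toShift L i).app s).hom := fun s z => by
      obtain ⟨v, hv, -⟩ := hF ∅ (insert i s) z fun j hj => absurd hj (Finset.notMem_empty _)
      exact ⟨res L (Finset.empty_subset s) v, (res_res _ _ v).trans hv⟩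
    have hK : IsZero (H (kerSys (toShift L i)) (p + 1)) := ih _ (hF.kerShift i) (fun s hs => by
      refine ⟨fun x y => Subtype.ext ?_⟩
      by_cases his : i ∈ s
      · exact (hbij s his).1 (x.2.trans y.2.symm)
      · exact (hL s fun h' => hs ((Finset.subset_insert_iff_of_notMem his).1 h')).elim _ _) p
    have hQ : ∀ q, IsZero (H (cokerSys (toShift L i)) q) := isZero_of_subsingleton fun s _ =>
      Submodule.Quotient.subsingleton_iff.2 (LinearMap.range_eq_top.2 (hsurj s))
    have hshift : IsZero (H (shift L i) (p + 1)) := isZero_of_cone i (fun s _ =>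
      res_bijective_of_subset (L := L) (Finset.insert_subset_insert i (Finset.subset_insert i s))
        (Finset.insert_subset (Finset.mem_insert_self _ _) le_rfl)) p
    exact isZero_mid (exact3_ker _) (p + 1) hK (isZero_left (exact3_coker _) p (hQ p) hshift)

theorem Flasque.isZero (h : Flasque L) (p : ℕ) : IsZero (H L (p + 1)) :=
  isZero_of_flasque_of_support Finset.univ L h (fun s hs => absurd (Finset.subset_univ s) hs) p

variable (φ : L ⟶ L') (ψ : L' ⟶ L'')

/-- Short exactness on all sets. -/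
structure ExactAll : Prop where
  inj : ∀ s : Finset ι, Function.Injective (φ.app s).hom
  surj : ∀ s : Finset ι, Function.Surjective (ψ.app s).hom
  zero : ∀ (s : Finset ι) (x : L.obj s), (ψ.app s).hom ((φ.app s).hom x) = 0
  exact : ∀ (s : Finset ι) (y : L'.obj s), (ψ.app s).hom y = 0 → ∃ x, (φ.app s).hom x = y

variable {φ ψ}

theorem ExactAll.exact3 (h : ExactAll φ ψ) : Exact3 φ ψ :=
  ⟨fun s _ => h.inj s, fun s _ => h.surj s, h.zero, fun s _ => h.exact s⟩

theorem ExactAll.isZero_iff (h : ExactAll φ ψ) (hF : Flasque L') (p : ℕ) :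
    IsZero (H L (p + 2)) ↔ IsZero (H L'' (p + 1)) :=
  ⟨fun h0 => isZero_right h.exact3 (p + 1) (hF.isZero p) h0,
    fun h0 => isZero_left h.exact3 (p + 1) h0 (hF.isZero (p + 1))⟩

theorem ExactAll.isZero_one_iff_glue (h : ExactAll φ ψ) (hF : Flasque L') : IsZero (H L 1) ↔ Glue L'' := by
  constructor
  · intro h0 c hc
    choose w hw using fun J : Fin 1 → ι => h.surj _ (c J)
    choose c' hc' using fun J : Fin 2 → ι => h.exact _ (dd L' 0 w J)
      (by rw [← dd_map ψ 0 w J, funext hw, congrFun hc J]; rfl)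
    have hc'0 : dd L 1 c' = 0 := funext fun J => h.inj _ (by
      rw [← dd_map φ 1 c' J, funext hc', congrFun (dd_dd 0 w) J, Pi.zero_apply, Pi.zero_apply, map_zero])
    obtain ⟨b, hb⟩ := exists_of_isZero h0 c' hc'0
    obtain ⟨v, hv⟩ := hF.glue (w - fun J => (φ.app (rng J)).hom (b J)) (funext fun J => by
      rw [map_sub, Pi.sub_apply, dd_map φ 0 b J, hb, hc', sub_self, Pi.zero_apply])
    refine ⟨(ψ.app ∅).hom v, fun J => ?_⟩
    rw [← app_res, ← hv J, Pi.sub_apply, map_sub, hw, h.zero, sub_zero]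
  · intro hG
    refine isZero_succ 0 fun c hc => ?_
    obtain ⟨w, hw⟩ := exists_of_isZero (hF.isZero 0) (fun J => (φ.app (rng J)).hom (c J))
      (funext fun J => by rw [dd_map φ 1 c J, hc, Pi.zero_apply, Pi.zero_apply, map_zero])
    obtain ⟨v, hv⟩ := hG (fun J => (ψ.app (rng J)).hom (w J)) (funext fun J => by
      rw [dd_map ψ 0 w J, hw, h.zero, Pi.zero_apply])
    obtain ⟨v', rfl⟩ := h.surj ∅ v
    choose b hb using fun J : Fin 1 → ι => h.exact _ (w J - res L' (Finset.empty_subset (rng J)) v')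
      (by rw [map_sub, app_res, hv J, sub_self])
    refine ⟨b, funext fun J => h.inj _ ?_⟩
    rw [← dd_map φ 0 b J, funext hb]
    refine (congrFun (map_sub (dd L' 0) w _) J).trans ?_
    rw [Pi.sub_apply, hw, dd_const, Pi.zero_apply, sub_zero]

theorem ExactAll.glue_iff (h : ExactAll φ ψ) (hG : Glue L') :
    Glue L ↔ ∀ z, IsTor L'' z → ∃ g, IsTor L' g ∧ (ψ.app ∅).hom g = z := by
  constructor
  · intro hL z hz
    obtain ⟨v, rfl⟩ := h.surj ∅ z
    choose b hb using fun J : Fin 1 → ι => h.exact _ (res L' (Finset.empty_subset (rng J)) v)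
      (by rw [app_res]; exact hz.res_eq_zero J)
    obtain ⟨x, hx⟩ := hL b (funext fun J => h.inj _ (by
      rw [← dd_map φ 0 b J, funext hb, dd_const, Pi.zero_apply, Pi.zero_apply, map_zero]))
    refine ⟨v - (φ.app ∅).hom x, fun i => ?_, by rw [map_sub, h.zero, sub_zero]⟩
    have hsub : rng (fun _ : Fin 1 => i) ⊆ insert i ∅ := fun y hy => by simp [rng] at hy; simp [hy]
    rw [map_sub, ← res_res (Finset.empty_subset _) hsub v, ← hb, ← app_res, hx, res_res, app_res, sub_self]
  · intro hT c hc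
    obtain ⟨v, hv⟩ := hG (fun J => (φ.app (rng J)).hom (c J)) (funext fun J => by
      rw [dd_map φ 0 c J, hc, Pi.zero_apply, Pi.zero_apply, map_zero])
    have hz : IsTor L'' ((ψ.app ∅).hom v) := fun i => by
      have hsub : rng (fun _ : Fin 1 => i) ⊆ insert i ∅ := fun y hy => by simp [rng] at hy; simp [hy]
      rw [← app_res, ← res_res (Finset.empty_subset _) hsub v, ← hv, app_res, h.zero, map_zero]
    obtain ⟨g, hg, hgz⟩ := hT _ hz
    obtain ⟨x, hx⟩ := h.exact ∅ (v - g) (by rw [map_sub, hgz, sub_self])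
    refine ⟨x, fun J => h.inj _ ?_⟩
    rw [app_res, hx, map_sub, hg.res_eq_zero J, sub_zero, ← hv]

theorem glue_congr (φ : L ⟶ L') (h : ∀ s, Function.Bijective (φ.app s).hom) : Glue L ↔ Glue L' := by
  constructor
  · intro hL c hc
    choose b hb using fun J : Fin 1 → ι => (h (rng J)).2 (c J)
    obtain ⟨v, hv⟩ := hL b (funext fun J => (h _).1 (by rw [← dd_map φ 0 b J, funext hb, hc, Pi.zero_apply, Pi.zero_apply, map_zero]))
    exact ⟨(φ.app ∅).hom v, fun J => by rw [← hb, hv J, app_res]⟩
  · intro hL c hc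
    obtain ⟨v, hv⟩ := hL (fun J => (φ.app (rng J)).hom (c J))
      (funext fun J => by rw [dd_map φ 0 c J, hc, Pi.zero_apply, Pi.zero_apply, map_zero])
    obtain ⟨x, rfl⟩ := (h ∅).2 v
    exact ⟨x, fun J => (h _).1 (by rw [hv J, app_res])⟩

section Graded

variable {N N' N'' : Type u} [AddCommGroup N] [Module (MvPolynomial ι R) N] [Module R N] [IsScalarTower R (MvPolynomial ι R) N]
  [AddCommGroup N'] [Module (MvPolynomial ι R) N'] [Module R N'] [IsScalarTower R (MvPolynomial ι R) N']
  [AddCommGroup N''] [Module (MvPolynomial ι R) N''] [Module R N''] [IsScalarTower R (MvPolynomial ι R) N'']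
  {G : Grading R ι N} {G' : Grading R ι N'} {G'' : Grading R ι N''}
  {a : N →ₗ[MvPolynomial ι R] N'} {b : N' →ₗ[MvPolynomial ι R] N''}

theorem exactAll_sys (h : GrExact G G' G'' a b) (d : ℤ) :
    ExactAll (sysMap G G' a h.hom_left d) (sysMap G' G'' b h.hom_right d) where
  inj s := by
    intro (z : locPiece G d s) (z' : locPiece G d s) e
    apply Subtype.ext
    obtain ⟨m, y, -, hz⟩ := z.2
    obtain ⟨m', y', -, hz'⟩ := z'.2
    have e' : locMap a s (z : Loc R N s) = locMap a s (z' : Loc R N s) := congrArg Subtype.val e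
    rw [hz, hz', locMap_frac, locMap_frac, frac_eq_frac_iff] at e'
    rw [hz, hz', frac_eq_frac_iff]
    obtain ⟨k, hk⟩ := e'
    exact ⟨k, h.inj (by rw [map_smul, map_smul, hk])⟩
  surj s := by
    rintro ⟨_, m, y, hy, rfl⟩
    obtain ⟨x, hx, rfl⟩ := h.surj _ y hy
    exact ⟨⟨frac s x m, m, x, hx, rfl⟩, Subtype.ext (locMap_frac b s x m)⟩
  zero s := (exact3_sys h d).zero s
  exact s := by
    rintro ⟨_, m, y, hy, rfl⟩ e
    have e' : frac (R := R) s (b y) m = frac s (0 : N'') 0 :=
      ((locMap_frac b s y m).symm.trans (congrArg Subtype.val e)).trans (LocalizedModule.zero_mk _).symm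
    obtain ⟨k, hk⟩ := frac_eq_frac_iff.1 e'
    rw [smul_zero, add_zero, ← map_smul] at hk
    obtain ⟨x, hx, hxy⟩ := h.exact _ _ (pow_xs_smul_mem G' s k hy (d' := d + ((m + k : ℕ) : ℤ) * s.card) (by push_cast; ring)) hk
    refine ⟨⟨frac s x (m + k), m + k, x, hx, rfl⟩, Subtype.ext ?_⟩
    show locMap a s (frac s x (m + k)) = frac s y m
    rw [locMap_frac, hxy, frac_mul]

/-- A homogeneous element as a global section. -/
def cls (G : Grading R ι N) {d : ℤ} (y : N) (hy : y ∈ G.piece d) : (locSys G d).obj ∅ :=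
  show locPiece G d ∅ from ⟨frac ∅ y 0, 0, y, by simpa using hy, rfl⟩

theorem exists_cls {d : ℤ} (v : (locSys G d).obj ∅) : ∃ (y : N) (hy : y ∈ G.piece d), v = cls G y hy := by
  obtain ⟨_, m, y, hy, rfl⟩ := v
  refine ⟨y, by simpa using hy, Subtype.ext ?_⟩
  show frac (R := R) ∅ y m = frac ∅ y 0
  rw [frac_eq_frac_iff]
  exact ⟨0, by simp [xs]⟩

theorem cls_inj {d : ℤ} {y y' : N} (hy : y ∈ G.piece d) (hy' : y' ∈ G.piece d) (h : cls G y hy = cls G y' hy') :
    y = y' := by
  have h1 : frac (R := R) ∅ y 0 = frac ∅ y' 0 := congrArg Subtype.val h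
  rw [frac_eq_frac_iff] at h1
  obtain ⟨k, hk⟩ := h1
  simpa [xs] using hk

theorem val_res_cls {d : ℤ} {y : N} (hy : y ∈ G.piece d) (s : Finset ι) :
    (show locPiece G d s from res (locSys G d) (Finset.empty_subset s) (cls G y hy)).1 = frac s y 0 := by
  refine (transLin_frac (Finset.empty_subset s) y 0).trans ?_
  rw [pow_zero, one_smul]

theorem isTor_cls {d : ℤ} {y : N} (hy : y ∈ G.piece d) :
    IsTor (locSys G d) (cls G y hy) ↔ ∀ i, ∃ k : ℕ, (MvPolynomial.X i : MvPolynomial ι R) ^ k • y = 0 := by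
  refine forall_congr' fun i => ?_
  have hx : xs R (insert i (∅ : Finset ι)) = MvPolynomial.X i := by simp [xs]
  have h0 : frac (R := R) (insert i (∅ : Finset ι)) (0 : N) 0 = 0 := LocalizedModule.zero_mk _
  constructor
  · intro h
    obtain ⟨k, hk⟩ := frac_eq_frac_iff.1 (((val_res_cls hy _).symm.trans (congrArg Subtype.val h)).trans h0.symm)
    exact ⟨k, by rw [← hx]; simpa using hk⟩
  · rintro ⟨k, hk⟩
    refine Subtype.ext ((val_res_cls hy _).trans (Eq.trans ?_ h0))
    exact frac_eq_frac_iff.2 ⟨k, by rw [hx, smul_zero, add_zero, hk]⟩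

theorem app_cls {d : ℤ} (ha : IsHom G G' a) {y : N} (hy : y ∈ G.piece d) :
    ((sysMap G G' a ha d).app ∅).hom (cls G y hy) = cls G' (a y) (ha d y hy) :=
  Subtype.ext (locMap_frac a ∅ y 0)

end Graded

end PnTildeLib

end
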