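import Mathlib
import Groth.Agent.GradedCechLib.Main
import Groth.Agent.GrTildeLib.Chart
import Groth.Agent.GrTildeLib.MulTwist
import Groth.Agent.QCohLib.QCoh

/-!
# Cohomology of the sheaf of a graded module on projective space as Čech cohomology of its degree parts
-/

set_option autoImplicit false
universe u

open CategoryTheory CategoryTheory.Limits AlgebraicGeometry TopologicalSpace Opposite MvPolynomial
open GrTildeLib GradedCechLib

noncomputable section

namespace PnTildeLib

variable {n : ℕ} {R : Type u} [CommRing R] {N : Type u} [AddCommGroup N] [Module (Poly n R) N] [Module R N]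
  [IsScalarTower R (Poly n R) N] (ℳ : ℕ → Submodule R N) [SetLike.GradedSMul (CohB1.polyGrading n R) ℳ]

local notation "𝒮" => CohB1.polyGrading n R

/-- A point of projective space as a homogeneous prime. -/
abbrev pt (x : CohB1.ProjSpace n R) : ProjectiveSpectrum (CohB1.polyGrading n R) := x

/-- The sheaf, as a module on projective space. -/
abbrev tl (t : ℤ) : (CohB1.ProjSpace n R).Modules := GrTilde.tilde (CohB1.polyGrading n R) ℳ t

theorem mem_Uof_iff (s : Finset (Fin (n + 1))) (x : CohB1.ProjSpace n R) :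
    x ∈ (Uof s : (CohB1.ProjSpace n R).Opens) ↔
      ∀ i ∈ s, (X i : Poly n R) ∉ (pt (x)).asHomogeneousIdeal := by
  induction s using Finset.induction with
  | empty => simp [Uof]
  | @insert a s ha ih =>
    rw [Uof, Finset.inf_insert, Finset.forall_mem_insert, ← ih]
    rfl

theorem xs_pow_nin {s : Finset (Fin (n + 1))} (x : (Uof s : (CohB1.ProjSpace n R).Opens)) (m : ℕ) :
    xs R s ^ m ∉ (pt (x.1)).asHomogeneousIdeal := fun h => by
  obtain ⟨i, hi, hi'⟩ := ((pt x.1).isPrime.prod_mem_iff).1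
    ((pt x.1).isPrime.mem_of_pow_mem m h)
  exact (mem_Uof_iff s x.1).1 x.2 i hi hi'

theorem xs_mem (s : Finset (Fin (n + 1))) : xs R s ∈ CohB1.polyGrading n R s.card := by
  have h := MvPolynomial.IsHomogeneous.prod s (fun i => (X i : Poly n R)) (fun _ => 1) fun i _ =>
    MvPolynomial.isHomogeneous_X R i
  rw [GradedCechLib.xs]
  simpa using h

theorem basicOpen_xs (s : Finset (Fin (n + 1))) :
    (Uof s : (CohB1.ProjSpace n R).Opens) = Proj.basicOpen 𝒮 (xs R s) := by
  ext x
  constructor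
  · intro h
    have := xs_pow_nin (s := s) ⟨x, h⟩ 1
    rwa [pow_one] at this
  · intro h
    refine (mem_Uof_iff s x).2 fun i hi hi' => h ?_
    obtain ⟨c, hc⟩ := Finset.dvd_prod_of_mem (fun i => (X i : Poly n R)) hi
    rw [xs, hc]
    exact Ideal.mul_mem_right _ _ hi'

theorem val_cstOn (V : (CohB1.ProjSpace n R).Opens) (c : R) (x : V) :
    ((show Twist.O (op V) from cstOn n R V c).1 x).val =
      algebraMap (Poly n R) (Twist.Loc 𝒮 (pt (x.1))) (C c) := by
  obtain ⟨i, hi⟩ : ∃ i, x.1 ∈ QCohLib.stdOpen n R i :=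
    Opens.mem_iSup.1 ((QCohLib.iSup_stdOpen n R).ge (Opens.mem_top x.1))
  have h2 : deh₀ n R i (C c) =
      HomogeneousLocalization.Away.mk 𝒮 (GradedCechLib.X_mem n R i) 0 (C c) (by simpa using isHomogeneous_C _ c) := by
    refine HomogeneousLocalization.val_injective _ ?_
    rw [deh₀, eval₂Hom_C, GradedCechLib.val_cst, HomogeneousLocalization.Away.val_mk,
      ← Localization.mk_one_eq_algebraMap]
    congr 1
  have h3 : ((show Twist.O (op (QCohLib.stdOpen n R i)) from deh n R i (C c)).1 ⟨x.1, hi⟩).val =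
      Localization.mk (C c) ⟨(X i) ^ 0, GrTildeLib.pow_nin (⟨x.1, hi⟩ : Proj.basicOpen 𝒮 (X i)) 0⟩ := by
    refine Eq.trans ?_ (GrTildeLib.val_awayToSection (GradedCechLib.X_mem n R i)
      (by simpa using isHomogeneous_C _ c) ⟨x.1, hi⟩)
    rw [← h2]
    rfl
  rw [GradedCechLib.deh_C] at h3
  let W : (CohB1.ProjSpace n R).Opens := V ⊓ QCohLib.stdOpen n R i
  have e1 : ((show Twist.O (op V) from cstOn n R V c).1 x) =
      (show Twist.O (op W) from resO n R (inf_le_left : W ≤ V) (cstOn n R V c)).1 ⟨x.1, x.2, hi⟩ := rfl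
  have e2 : ((show Twist.O (op (QCohLib.stdOpen n R i)) from cstOn n R (QCohLib.stdOpen n R i) c).1 ⟨x.1, hi⟩) =
      (show Twist.O (op W) from resO n R (inf_le_right : W ≤ QCohLib.stdOpen n R i)
        (cstOn n R (QCohLib.stdOpen n R i) c)).1 ⟨x.1, x.2, hi⟩ := rfl
  rw [resO_cstOn] at e1 e2
  rw [e1, ← e2, h3, ← Localization.mk_one_eq_algebraMap]
  congr 1

/-- The grading by all integers which is zero in negative degrees. -/
def posGrading : Grading R (Fin (n + 1)) N where
  piece d := if 0 ≤ d then ℳ d.toNat else ⊥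
  X_smul_mem i d y hy := by
    by_cases hd : 0 ≤ d
    · rw [if_pos hd] at hy
      rw [if_pos (by omega), show (d + 1).toNat = 1 + d.toNat by omega]
      exact SetLike.GradedSMul.smul_mem (A := 𝒮) (B := ℳ) (GradedCechLib.X_mem n R i) hy
    · rw [if_neg hd, Submodule.mem_bot] at hy
      rw [hy, smul_zero]
      exact zero_mem _

theorem posGrading_piece_natCast (i : ℕ) : (posGrading (n := n) ℳ).piece (i : ℤ) = ℳ i := by
  simp [posGrading]

theorem mem_posGrading {d : ℤ} {y : N} (hy : y ∈ (posGrading (n := n) ℳ).piece d) :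
    (y ∈ ℳ d.toNat ∧ 0 ≤ d) ∨ y = 0 := by
  by_cases hd : 0 ≤ d
  · exact Or.inl ⟨by simpa [posGrading, hd] using hy, hd⟩
  · exact Or.inr (by simpa [posGrading, hd] using hy)

/-- The value of a fraction at a point. -/
def valLin (s : Finset (Fin (n + 1))) (x : (Uof s : (CohB1.ProjSpace n R).Opens)) :
    Loc R N s →ₗ[Poly n R] GrTilde.LocMod 𝒮 (M := N) (pt (x.1)) :=
  LocalizedModule.lift _ (LocalizedModule.mkLinearMap _ N) fun u => by
    obtain ⟨_, m, rfl⟩ := u
    exact IsLocalizedModule.map_units (S := (pt (x.1)).asHomogeneousIdeal.toIdeal.primeCompl)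
      (LocalizedModule.mkLinearMap _ N) ⟨_, xs_pow_nin x m⟩

theorem valLin_frac (s : Finset (Fin (n + 1))) (x : (Uof s : (CohB1.ProjSpace n R).Opens)) (y : N) (m : ℕ) :
    valLin s x (frac s y m) = LocalizedModule.mk y ⟨xs R s ^ m, xs_pow_nin x m⟩ := by
  rw [frac, valLin, LocalizedModule.lift_mk]
  refine (Module.End.algebraMap_isUnit_inv_apply_eq_iff _ _ _ _).2 ?_
  rw [LocalizedModule.mkLinearMap_apply, LocalizedModule.smul'_mk]
  exact (LocalizedModule.mk_cancel (⟨xs R s ^ m, xs_pow_nin x m⟩ :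
    (pt (x.1)).asHomogeneousIdeal.toIdeal.primeCompl) y).symm

variable (t : ℤ)

/-- The section given by a fraction. -/
def fracToSec (s : Finset (Fin (n + 1))) (z : locPiece (posGrading (n := n) ℳ) t s) :
    Γ(tl (n := n) ℳ t, Uof s) :=
  secOf (fun x => valLin s x z.1) fun x => by
    obtain ⟨m, y, hy, hz⟩ := z.2
    rcases mem_posGrading (n := n) ℳ hy with ⟨hy, hd⟩ | hy
    · refine ⟨Uof s, x.2, le_rfl, (t + m * (s.card : ℤ)).toNat, m • s.card, y, xs R s ^ m, hy,
        SetLike.pow_mem_graded m (xs_mem s), fun w => xs_pow_nin w m, Or.inl ?_, fun w => ?_⟩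
      · rw [smul_eq_mul]; push_cast; omega
      · rw [hz]; exact valLin_frac s _ y m
    · refine ⟨Uof s, x.2, le_rfl, 0, m • s.card, 0, xs R s ^ m, zero_mem _,
        SetLike.pow_mem_graded m (xs_mem s), fun w => xs_pow_nin w m, Or.inr rfl, fun w => ?_⟩
      rw [hz, hy]; exact valLin_frac s _ 0 m

theorem val_fracToSec (s : Finset (Fin (n + 1))) (z : locPiece (posGrading (n := n) ℳ) t s)
    (x : (Uof s : (CohB1.ProjSpace n R).Opens)) : val (fracToSec ℳ t s z) x = valLin s x z.1 := rfl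

theorem fracToSec_add (s : Finset (Fin (n + 1))) (z z' : locPiece (posGrading (n := n) ℳ) t s) :
    fracToSec ℳ t s (z + z') = fracToSec ℳ t s z + fracToSec ℳ t s z' :=
  sec_ext fun x => map_add (valLin s x) z.1 z'.1

theorem fracToSec_smul (s : Finset (Fin (n + 1))) (c : R) (z : locPiece (posGrading (n := n) ℳ) t s) :
    fracToSec ℳ t s (c • z) = cstOn n R (Uof s) c • fracToSec ℳ t s z := by
  refine sec_ext fun x => ?_
  refine Eq.trans ?_ (GrTildeLib.val_smul (cstOn n R (Uof s) c) (fracToSec ℳ t s z) x).symm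
  refine Eq.trans ?_ (congrArg (· • valLin s x z.1) (val_cstOn (Uof s) c x)).symm
  show valLin s x (c • z.1) = _
  rw [← algebraMap_smul (Poly n R) c z.1, map_smul, MvPolynomial.algebraMap_eq]
  exact (algebraMap_smul _ _ _).symm

/-- Fractions as sections, compatibly. -/
def toSys : locSys (posGrading (n := n) ℳ) t ⟶ secSys (tl (n := n) ℳ t) where
  app s := show ModuleCat.of R (locPiece (posGrading (n := n) ℳ) t s) ⟶ ModuleCat.of R (SecR _ (Uof s)) from
    ModuleCat.ofHom
      { toFun := fun z => (toS _).symm (fracToSec ℳ t s z)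
        map_add' := fun z z' => fracToSec_add ℳ t s z z'
        map_smul' := fun c z => fracToSec_smul ℳ t s c z }
  naturality {s s'} f := ModuleCat.hom_ext (LinearMap.ext fun (z : locPiece (posGrading (n := n) ℳ) t s) => by
    refine sec_ext (V := (Uof s' : (Proj 𝒮).Opens)) fun x => ?_
    show valLin s' x (transLin (leOfHom f) z.1) = valLin s ⟨x.1, (Finset.inf_mono (f := QCohLib.stdOpen n R) (leOfHom f)) x.2⟩ z.1
    obtain ⟨m, y, -, hz⟩ := z.2
    rw [hz, transLin_frac, valLin_frac, valLin_frac]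
    refine mk_congr ?_
    show xs R s ^ m • xs R (s' \ s) ^ m • y = xs R s' ^ m • y
    rw [smul_smul, ← mul_pow, xs_mul_sdiff (leOfHom f)])

theorem toSys_bijective [DirectSum.Decomposition ℳ] (s : Finset (Fin (n + 1))) (hs : s.Nonempty) :
    Function.Bijective ((toSys ℳ t).app s).hom := by
  have hinj : ∀ z : locPiece (posGrading (n := n) ℳ) t s, fracToSec ℳ t s z = 0 → z = 0 := fun z hz => by
    obtain ⟨m, y, hy, hz'⟩ := z.2
    apply Subtype.ext
    rw [hz', Submodule.coe_zero]
    rcases mem_posGrading (n := n) ℳ hy with ⟨hy, -⟩ | hy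
    · obtain ⟨N', hN⟩ := GrTildeLib.exists_pow_smul_eq_zero 𝒮 ℳ hs.card_pos (xs_mem s) hy fun x hx => by
        have hxU : x ∈ (Uof s : (CohB1.ProjSpace n R).Opens) := by rw [basicOpen_xs]; exact hx
        refine ⟨⟨xs R s ^ m, xs_pow_nin ⟨x, hxU⟩ m⟩, ?_⟩
        have h1 := congrArg (fun w => val w ⟨x, hxU⟩) hz
        simp only [val_fracToSec, val_zero] at h1
        rw [hz'] at h1
        exact (valLin_frac s ⟨x, hxU⟩ y m).symm.trans h1
      rw [← frac_mul s y m N', hN, frac, LocalizedModule.zero_mk]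
    · rw [hy, frac, LocalizedModule.zero_mk]
  refine ⟨(injective_iff_map_eq_zero ((toSys ℳ t).app s).hom).2 hinj, fun σ => ?_⟩
  have hU := basicOpen_xs (R := R) s
  obtain ⟨k, i, y, hy, hi, hv⟩ := GrTildeLib.exists_eq_frac hs.card_pos (xs_mem s)
    ((GrTilde.tilde 𝒮 ℳ t).presheaf.map (homOfLE hU.ge).op (toS _ σ))
  have hy' : y ∈ (posGrading (n := n) ℳ).piece (t + k * (s.card : ℤ)) := by
    rw [show t + k * (s.card : ℤ) = (i : ℤ) by rw [hi]; push_cast; ring, posGrading_piece_natCast]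
    exact hy
  refine ⟨⟨frac s y k, k, y, hy', rfl⟩, sec_ext (V := (Uof s : (Proj 𝒮).Opens)) fun x => ?_⟩
  show valLin s x (frac s y k) = _
  rw [valLin_frac]
  exact ((val_res (homOfLE hU.ge) (toS _ σ) ⟨x.1, hU.le x.2⟩).symm.trans (hv ⟨x.1, hU.le x.2⟩)).symm

/-- The cohomology of `M(t)~` vanishes when the Čech cohomology of the degree `t` parts does. -/
theorem subsingleton_HH_tilde [DirectSum.Decomposition ℳ] (p : ℕ)
    (h : IsZero (H (locSys (posGrading (n := n) ℳ) t) p)) :
    Subsingleton (Coh.HH (CohB1.ProjSpace n R) (GrTilde.tilde 𝒮 ℳ t) p) := by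
  haveI : Coh.IsQCoh (X := CohB1.ProjSpace n R) (GrTilde.tilde 𝒮 ℳ t) := GrTildeLib.isQCoh_tilde t
  obtain ⟨e, -⟩ := exists_HH_equiv (M := tl (n := n) ℳ t) p
  haveI := ModuleCat.subsingleton_of_isZero (h.of_iso (hIsoOfBijective (toSys ℳ t) (toSys_bijective ℳ t) p).symm)
  exact e.symm.injective.subsingleton

end PnTildeLib

end
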