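import Mathlib
import Groth.Agent.GrTildeLib.Chart
import Groth.Agent.GrTildeLib.MulTwist
import Groth.Agent.GrTildeLib.Sub

/-!
# The sheaf of a graded module only sees the part of non-negative degree
-/

set_option autoImplicit false
universe u

open CategoryTheory CategoryTheory.Limits AlgebraicGeometry TopologicalSpace Opposite GrTildeLib

noncomputable section

namespace PnTildeLib

variable {R A : Type u} [CommRing R] [CommRing A] [Algebra R A] {𝒜 : ℕ → Submodule R A} [GradedAlgebra 𝒜]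
  {M : Type u} [AddCommGroup M] [Module R M] [Module A M] [IsScalarTower R A M]
  (ℳ : ℕ → Submodule R M) [SetLike.GradedSMul 𝒜 ℳ] (S : Submodule A M)

/-- Localisation of the inclusion. -/
def locIncl (x : ProjectiveSpectrum 𝒜) :
    GrTilde.LocMod 𝒜 (M := S) x →ₗ[Localization x.asHomogeneousIdeal.toIdeal.primeCompl] GrTilde.LocMod 𝒜 (M := M) x :=
  LocalizedModule.map _ S.subtype

lemma locIncl_mk (x : ProjectiveSpectrum 𝒜) (m : S) (s : x.asHomogeneousIdeal.toIdeal.primeCompl) :
    locIncl S x (LocalizedModule.mk m s) = LocalizedModule.mk (m : M) s := by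
  simp [locIncl]

lemma locIncl_injective (x : ProjectiveSpectrum 𝒜) : Function.Injective (locIncl (𝒜 := 𝒜) S x) :=
  LocalizedModule.map_injective _ _ Subtype.val_injective

/-- Sections of the submodule as sections of the module. -/
def inclSec {n : ℤ} {V : (Proj 𝒜).Opens} (t : Γ(GrTilde.tilde 𝒜 (subGr ℳ S) n, V)) :
    Γ(GrTilde.tilde 𝒜 ℳ n, V) :=
  secOf (fun x => locIncl S x.1 (val t x)) fun x => by
    obtain ⟨W, hxW, hW, i, j, m, s, hm, hs, hnin, hd, hv⟩ := val_exists t x
    refine ⟨W, hxW, hW, i, j, m, s, hm, hs, hnin, hd.imp id (fun h => by rw [h]; rfl), fun y => ?_⟩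
    exact (congrArg (locIncl S y.1) (hv y)).trans (locIncl_mk S _ m _)

/-- The comparison of sheaves. -/
def inclHom (n : ℤ) : GrTilde.tilde 𝒜 (subGr ℳ S) n ⟶ GrTilde.tilde 𝒜 ℳ n :=
  ⟨PresheafOfModules.homMk (M₁ := (GrTilde.tilde 𝒜 (subGr ℳ S) n).val) (M₂ := (GrTilde.tilde 𝒜 ℳ n).val)
    { app := fun W => AddCommGrpCat.ofHom
        (AddMonoidHom.mk' (fun t : Γ(GrTilde.tilde 𝒜 (subGr ℳ S) n, W.unop) => inclSec ℳ S t)
          (fun t t' => sec_ext fun x => map_add (locIncl S x.1) _ _))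
      naturality := fun W W' j => by ext t; rfl }
    (fun W r t => sec_ext (V := W.unop) fun x =>
      (congrArg (locIncl S x.1) (val_smul r t x)).trans (((locIncl S x.1).map_smul _ _).trans
        (val_smul r (inclSec ℳ S t) x).symm))⟩

theorem isIso_inclHom (hS : ∀ n, ℳ n ≤ S.restrictScalars R) (n : ℤ) : IsIso (inclHom (𝒜 := 𝒜) ℳ S n) := by
  rw [Scheme.Modules.Hom.isIso_iff_isIso_app]
  intro V
  refine (ConcreteCategory.isIso_iff_bijective _).mpr ⟨fun t t' h => ?_, fun t => ?_⟩
  · exact sec_ext fun x => locIncl_injective S x.1 (congrArg (fun z => val z x) h)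
  · have hex : ∀ x : V, ∃ q, locIncl S x.1 q = val t x := fun x => by
      obtain ⟨W, hxW, hW, i, j, m, s, hm, hs, hnin, hd, hv⟩ := val_exists t x
      exact ⟨LocalizedModule.mk ⟨m, hS i hm⟩ ⟨s, hnin ⟨x.1, hxW⟩⟩, (locIncl_mk S _ _ _).trans (hv ⟨x.1, hxW⟩).symm⟩
    choose q hq using hex
    refine ⟨secOf q fun x => ?_, sec_ext fun x => hq x⟩
    obtain ⟨W, hxW, hW, i, j, m, s, hm, hs, hnin, hd, hv⟩ := val_exists t x
    refine ⟨W, hxW, hW, i, j, ⟨m, hS i hm⟩, s, hm, hs, hnin, hd.imp id (fun h => Subtype.ext h), fun y => ?_⟩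
    exact locIncl_injective S y.1 ((hq ⟨y.1, hW y.2⟩).trans ((hv y).trans
      (locIncl_mk S y.1 ⟨m, hS i hm⟩ ⟨s, hnin y⟩).symm))

/-- The sheaf of a submodule containing all pieces. -/
theorem tilde_sub_iso (hS : ∀ n, ℳ n ≤ S.restrictScalars R) (n : ℤ) :
    Nonempty (GrTilde.tilde 𝒜 (subGr ℳ S) n ≅ GrTilde.tilde 𝒜 ℳ n) :=
  haveI := isIso_inclHom (𝒜 := 𝒜) ℳ S hS n
  ⟨asIso (inclHom ℳ S n)⟩

section Pos

variable (ℳz : ℤ → Submodule R M) [DirectSum.Decomposition ℳz] [SetLike.GradedSMul 𝒜 fun n : ℕ => ℳz n]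

/-- The part of non-negative degree. -/
def posPart : Submodule A M where
  carrier := ((⨆ n : ℕ, ℳz n : Submodule R M) : Set M)
  zero_mem' := zero_mem _
  add_mem' := add_mem
  smul_mem' a m hm := by
    induction a using DirectSum.Decomposition.inductionOn (ℳ := 𝒜) with
    | zero => rw [zero_smul]; exact zero_mem _
    | @homogeneous l b =>
      change (b : A) • m ∈ (⨆ n : ℕ, ℳz n : Submodule R M)
      induction hm using Submodule.iSup_induction' with
      | mem n z hz =>
        exact Submodule.mem_iSup_of_mem (l + n) (SetLike.GradedSMul.smul_mem (A := 𝒜) (B := fun n : ℕ => ℳz n) b.2 hz)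
      | zero => rw [smul_zero]; exact zero_mem _
      | add x y _ _ hx hy => rw [smul_add]; exact add_mem hx hy
    | add b c hb hc => rw [add_smul]; exact add_mem hb hc

theorem le_posPart (n : ℕ) : ℳz n ≤ (posPart (𝒜 := 𝒜) ℳz).restrictScalars R :=
  le_iSup (fun n : ℕ => ℳz n) n

theorem isInternal_posPart : DirectSum.IsInternal (subGr (fun n : ℕ => ℳz n) (posPart (𝒜 := 𝒜) ℳz)) := by
  classical
  rw [DirectSum.isInternal_submodule_iff_iSupIndep_and_iSup_eq_top]
  constructor
  · rw [iSupIndep_iff_finsetSum_eq_zero_imp_eq_zero]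
    intro s v hv hsum i hi
    have h := (DirectSum.Decomposition.isInternal ℳz).submodule_iSupIndep.comp
      (Nat.cast_injective : Function.Injective ((↑) : ℕ → ℤ))
    rw [iSupIndep_iff_finsetSum_eq_zero_imp_eq_zero] at h
    exact Subtype.ext (h s (fun i => (v i : M)) hv
      (by simpa using congrArg (fun z : posPart (𝒜 := 𝒜) ℳz => (z : M)) hsum) i hi)
  · rw [eq_top_iff]
    rintro ⟨m, hm⟩ -
    induction hm using Submodule.iSup_induction' with
    | mem n z hz => exact Submodule.mem_iSup_of_mem n (show _ ∈ subGr (fun n : ℕ => ℳz n) _ n from hz)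
    | zero => exact zero_mem _
    | add x y hx hy ihx ihy =>
      exact add_mem ihx ihy

end Pos

end PnTildeLib

end
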