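import Mathlib
import Groth.Prelude.Def_GrSyz
import Groth.Agent.GradedCechLib.Finite

/-!
# Vanishing of graded Čech cohomology from a free resolution
-/

set_option autoImplicit false
universe u

open CategoryTheory CategoryTheory.Limits MvPolynomial GradedCechLib

noncomputable section

namespace PnTildeLib

variable {k : Type u} [CommRing k] {ι : Type} [Fintype ι] [DecidableEq ι]

local notation "PA" => MvPolynomial ι k

omit [DecidableEq ι] in
theorem sum_of_mem_stdGr {p : PA} {n : ℤ} (h : p ∈ GrSyz.stdGr k ι n) {e : ι →₀ ℕ} (he : coeff e p ≠ 0) :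
    ∑ i, (e i : ℤ) = n := by
  have h1 := (GrSyz.mem_stdGr_iff k ι n p).1 h he
  rw [← h1, Finsupp.weight_apply, Finsupp.sum_fintype _ _ (by simp)]
  simp

omit [DecidableEq ι] in
theorem monomial_mem_stdGr (e : ι →₀ ℕ) (c : k) : monomial e c ∈ GrSyz.stdGr k ι (∑ i, (e i : ℤ)) := by
  rw [GrSyz.mem_stdGr_iff]
  refine isWeightedHomogeneous_monomial _ _ _ ?_
  rw [Finsupp.weight_apply, Finsupp.sum_fintype _ _ (by simp)]
  simp

omit [DecidableEq ι] in
theorem X_mem_stdGr (i : ι) : (X i : PA) ∈ GrSyz.stdGr k ι 1 := by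
  rw [GrSyz.mem_stdGr_iff]
  exact isWeightedHomogeneous_X k (fun _ : ι => (1 : ℤ)) i

/-- Homogeneous components in a free module with shifts. -/
def freePart {κ : Type} (e : κ → ℤ) (d : ℤ) (v : κ → PA) : κ → PA := fun b => degPart k ι (d + e b) (v b)

theorem freePart_mem {κ : Type} [Fintype κ] (e : κ → ℤ) (d : ℤ) (v : κ → PA) :
    freePart e d v ∈ (freeGrading k κ e).piece d := fun b n hn => by
  rw [freePart, coeff_degPart] at hn
  split_ifs at hn with h
  · exact h
  · exact absurd rfl hn

theorem freePart_eq_self {κ : Type} [Fintype κ] (e : κ → ℤ) (d : ℤ) (v : κ → PA)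
    (hv : v ∈ (freeGrading k κ e).piece d) : freePart e d v = v := by
  funext b
  ext n
  rw [freePart, coeff_degPart]
  split_ifs with h
  · rfl
  · exact (by_contra fun h0 => h (hv b n fun hc => h0 hc.symm))

theorem genMap_freePart {κ μ : Type} [Fintype κ] [Fintype μ] (e : κ → ℤ) (e' : μ → ℤ) (g : κ → μ → PA)
    (hg : ∀ b, g b ∈ (freeGrading k μ e').piece (-e b)) (d : ℤ) (v : κ → PA) :
    genMap (R := k) (ι := ι) g (freePart e d v) = freePart e' d (genMap (R := k) (ι := ι) g v) := by
  funext a
  simp only [genMap, Fintype.linearCombination_apply, freePart, Finset.sum_apply, Pi.smul_apply, smul_eq_mul,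
    map_sum]
  refine Finset.sum_congr rfl fun b _ => ?_
  rw [degPart_mul (d + e' a) (-e b + e' a) _ _ (fun n hn => hg b a n hn)]
  congr 2
  ring_nf

variable {M : Type u} [AddCommGroup M] [Module (MvPolynomial ι k) M] [Module k M]
  [IsScalarTower k (MvPolynomial ι k) M]
  (ℳ : ℤ → Submodule k M) [DirectSum.Decomposition ℳ] [SetLike.GradedSMul (GrSyz.stdGr k ι) ℳ]

/-- The grading of the module. -/
def modGrading : Grading k ι M where
  piece := ℳ
  X_smul_mem i d y hy := by
    have h := SetLike.GradedSMul.smul_mem (A := GrSyz.stdGr k ι) (B := ℳ) (X_mem_stdGr i) hy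
    rwa [vadd_eq_add, add_comm] at h

theorem component_smul {l : ℤ} {x : M} (hx : x ∈ ℳ l) (d : ℤ) (p : PA) :
    (DirectSum.decompose ℳ (p • x) d : M) = degPart k ι (d - l) p • x := by
  classical
  induction p using MvPolynomial.induction_on' with
  | monomial e c =>
    have h1 : monomial e c • x ∈ ℳ (∑ i, (e i : ℤ) + l) :=
      SetLike.GradedSMul.smul_mem (A := GrSyz.stdGr k ι) (B := ℳ) (monomial_mem_stdGr e c) hx
    have h2 : degPart k ι (d - l) (monomial e c) = if ∑ i, (e i : ℤ) = d - l then monomial e c else 0 := by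
      ext n
      rw [coeff_degPart]
      by_cases hn : e = n
      · subst hn; split_ifs <;> simp
      · split_ifs <;> simp [coeff_monomial, hn]
    rw [h2]
    split_ifs with h
    · rw [show d = ∑ i, (e i : ℤ) + l by omega, DirectSum.decompose_of_mem_same ℳ h1]
    · rw [DirectSum.decompose_of_mem_ne ℳ h1 (fun hh => h (by omega)), zero_smul]
  | add p q hp hq =>
    rw [add_smul, DirectSum.decompose_add, DirectSum.add_apply, Submodule.coe_add, hp, hq, map_add, add_smul]

variable {ℳ} (F : GrSyz.FreeRes (GrSyz.stdGr k ι) ℳ)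

/-- The shifts of a term. -/
def shifts (j : ℕ) : Fin (F.rk j) → ℤ := fun b => -F.deg j b

/-- The columns of a differential. -/
def cols (j : ℕ) : Fin (F.rk (j + 1)) → Fin (F.rk j) → PA := fun b a => F.d j a b

theorem cols_mem (j : ℕ) (b : Fin (F.rk (j + 1))) :
    cols F j b ∈ (freeGrading k (Fin (F.rk j)) (shifts F j)).piece (-shifts F (j + 1) b) := fun a n hn => by
  rw [sum_of_mem_stdGr (F.d_mem j a b) hn]
  simp [shifts, sub_eq_add_neg]

theorem genMap_cols (j : ℕ) : genMap (R := k) (ι := ι) (cols F j) = F.dLin j := by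
  refine LinearMap.ext fun v => funext fun a => ?_
  simp only [genMap, Fintype.linearCombination_apply, Finset.sum_apply, Pi.smul_apply, smul_eq_mul, cols,
    Matrix.mulVecLin_apply, Matrix.mulVec, dotProduct]
  exact Finset.sum_congr rfl fun b _ => mul_comm _ _

/-- The syzygy module. -/
abbrev Syz (j : ℕ) : Submodule PA (Fin (F.rk j) → PA) := LinearMap.range (genMap (R := k) (ι := ι) (cols F j))

theorem syz_eq (j : ℕ) : Syz F j = LinearMap.range (Matrix.mulVecLin (F.d j)) := by
  rw [Syz, genMap_cols]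

/-- Its grading. -/
def syzGrading (j : ℕ) : Grading k ι (Syz F j) where
  piece d := ((freeGrading k (Fin (F.rk j)) (shifts F j)).piece d).comap ((Syz F j).subtype.restrictScalars k)
  X_smul_mem i d y hy := (freeGrading k (Fin (F.rk j)) (shifts F j)).X_smul_mem i d _ hy

theorem exists_preimage (j : ℕ) (d : ℤ) (y : Syz F j) (hy : y ∈ (syzGrading F j).piece d) :
    ∃ f ∈ (freeGrading k (Fin (F.rk (j + 1))) (shifts F (j + 1))).piece d,
      genMap (R := k) (ι := ι) (cols F j) f = y.1 := by
  obtain ⟨v, hv⟩ := y.2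
  refine ⟨freePart (shifts F (j + 1)) d v, freePart_mem _ _ _, ?_⟩
  rw [genMap_freePart _ _ _ (cols_mem F j), hv]
  exact freePart_eq_self _ _ _ hy

theorem grExact_syz (j : ℕ) :
    GrExact (syzGrading F (j + 1)) (freeGrading k (Fin (F.rk (j + 1))) (shifts F (j + 1))) (syzGrading F j)
      (Syz F (j + 1)).subtype (genMap (R := k) (ι := ι) (cols F j)).rangeRestrict where
  hom_left _ _ hy := hy
  hom_right d y hy := genMap_isHom _ (shifts F (j + 1)) (cols F j) (cols_mem F j) d y hy
  inj := Subtype.val_injective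
  zero y := by
    have h : y.1 ∈ LinearMap.ker (genMap (R := k) (ι := ι) (cols F j)) := by
      rw [genMap_cols, GrSyz.FreeRes.dLin, F.exact_succ j, ← syz_eq]
      exact y.2
    exact Subtype.ext h
  surj d z hz := by
    obtain ⟨f, hf, hf'⟩ := exists_preimage F j d z hz
    exact ⟨f, hf, Subtype.ext hf'⟩
  exact d y hy h := by
    refine ⟨⟨y, ?_⟩, hy, rfl⟩
    have h1 : y ∈ LinearMap.ker (genMap (R := k) (ι := ι) (cols F j)) := congrArg Subtype.val h
    rw [genMap_cols, GrSyz.FreeRes.dLin, F.exact_succ j, ← syz_eq] at h1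
    exact h1

theorem grExact_aug :
    GrExact (syzGrading F 0) (freeGrading k (Fin (F.rk 0)) (shifts F 0)) (modGrading ℳ)
      (Syz F 0).subtype (genMap (R := k) (ι := ι) F.aug) where
  hom_left _ _ hy := hy
  hom_right d y hy := genMap_isHom (modGrading ℳ) (shifts F 0) F.aug
    (fun b => by simpa [shifts, modGrading] using F.aug_mem b) d y hy
  inj := Subtype.val_injective
  zero y := by
    have h : y.1 ∈ LinearMap.ker (Fintype.linearCombination PA F.aug) := by
      rw [F.exact_zero]
      rw [← syz_eq]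
      exact y.2
    exact h
  surj d z hz := by
    classical
    obtain ⟨v, hv⟩ := F.aug_surjective z
    refine ⟨freePart (shifts F 0) d v, freePart_mem _ _ _, ?_⟩
    have h1 := DirectSum.decompose_of_mem_same ℳ (show z ∈ ℳ d from hz)
    rw [← h1, ← hv]
    have hsum : ∀ (s : Finset (Fin (F.rk 0))) (f : Fin (F.rk 0) → M),
        (DirectSum.decompose ℳ (∑ i ∈ s, f i) d : M) = ∑ i ∈ s, (DirectSum.decompose ℳ (f i) d : M) := fun s f => by
      induction s using Finset.induction_on with
      | empty => simp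
      | @insert a s ha ih =>
        rw [Finset.sum_insert ha, Finset.sum_insert ha, DirectSum.decompose_add, DirectSum.add_apply,
          Submodule.coe_add, ih]
    rw [Fintype.linearCombination_apply, hsum, genMap, Fintype.linearCombination_apply]
    refine Finset.sum_congr rfl fun b _ => ?_
    rw [component_smul ℳ (F.aug_mem b) d (v b), freePart, shifts, sub_eq_add_neg]
  exact d y hy h := by
    refine ⟨⟨y, ?_⟩, hy, rfl⟩
    have h1 : y ∈ LinearMap.ker (Fintype.linearCombination PA F.aug) := h
    rw [F.exact_zero] at h1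
    show y ∈ LinearMap.range (genMap (R := k) (ι := ι) (cols F 0))
    rw [genMap_cols]
    exact h1

variable [Nonempty ι] {d : ℤ}

theorem isZero_H_syz (hF : F.IsGenLE d) (j p : ℕ) (t : ℤ) (hp : 1 ≤ p) (ht : d + j + 1 - p ≤ t) :
    IsZero (H (locSys (syzGrading F j) t) p) := by
  obtain ⟨c, hc⟩ : ∃ c, c = Fintype.card ι - p := ⟨_, rfl⟩
  induction c generalizing j p with
  | zero => exact isZero_H_of_card_le _ t p (by omega)
  | succ c ih =>
    obtain ⟨q, rfl⟩ : ∃ q, p = q + 1 := ⟨p - 1, by omega⟩
    refine isZero_right (exact3_sys (grExact_syz F j) t) (q + 1)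
      (isZero_H_free _ _ t (fun b => ?_) q) (ih (j + 1) (q + 1 + 1) (by omega) (by omega) (by omega))
    have := hF (j + 1) b
    simp only [shifts]
    omega

theorem isZero_H_mod (hF : F.IsGenLE d) (p : ℕ) (t : ℤ) (hp : 1 ≤ p) (hc : p < Fintype.card ι) (ht : d - p ≤ t) :
    IsZero (H (locSys (modGrading (ι := ι) ℳ) t) p) := by
  obtain ⟨q, rfl⟩ : ∃ q, p = q + 1 := ⟨p - 1, by omega⟩
  refine isZero_right (exact3_sys (grExact_aug F) t) (q + 1) (isZero_H_free _ _ t (fun b => ?_) q)
    (isZero_H_syz F hF 0 (q + 1 + 1) t (by omega) (by omega))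
  have := hF 0 b
  simp only [shifts]
  omega

end PnTildeLib

end
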