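import Mathlib
import Groth.Agent.PnTildeLib.Pos
import Groth.Agent.PnTildeLib.Compare
import Groth.Agent.PnTildeLib.Resolution
import Groth.Prelude.Def_Curv2

/-!
# Cohomology of the sheaf of a graded module over the integers
-/

set_option autoImplicit false
universe u

open CategoryTheory CategoryTheory.Limits AlgebraicGeometry TopologicalSpace Opposite MvPolynomial
open GrTildeLib GradedCechLib

noncomputable section

namespace PnTildeLib

variable {n : ℕ} {k : Type u} [CommRing k] {M : Type u} [AddCommGroup M] [Module k M]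
  [Module (MvPolynomial (Fin (n + 1)) k) M] [IsScalarTower k (MvPolynomial (Fin (n + 1)) k) M]
  (ℳ : ℤ → Submodule k M) [DirectSum.Decomposition ℳ] [SetLike.GradedSMul (GrSyz.stdGr k (Fin (n + 1))) ℳ]
  [SetLike.GradedSMul (CohB1.polyGrading n k) fun i : ℕ => ℳ i]

local notation "𝒮" => CohB1.polyGrading n k
local notation "P⁺" => posPart (𝒜 := CohB1.polyGrading n k) ℳ

theorem subsingleton_HH_of_iso {X : Scheme.{u}} {F G : X.Modules} (e : F ≅ G) (p : ℕ)
    (h : Subsingleton (Coh.HH X G p)) : Subsingleton (Coh.HH X F p) := by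
  refine ⟨fun x y => ?_⟩
  have key : ∀ z : Coh.HH X F p,
      Sheaf.H.map ((QCohLib.toAbF X).map e.inv) p (Sheaf.H.map ((QCohLib.toAbF X).map e.hom) p z) = z := fun z => by
    rw [← Sheaf.H.map_comp_apply, ← Functor.map_comp, e.hom_inv_id, CategoryTheory.Functor.map_id,
      Sheaf.H.map_id_apply]
  rw [← key x, ← key y]
  exact congrArg _ (@Subsingleton.elim _ h _ _)

theorem hcov (x : Proj 𝒮) : ∃ g ∈ CohB1.polyGrading n k 1, g ∉ x.asHomogeneousIdeal := by
  obtain ⟨i, hi⟩ := Opens.mem_iSup.1 ((QCohLib.iSup_stdOpen n k).ge (Opens.mem_top x))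
  exact ⟨X i, GradedCechLib.X_mem n k i, hi⟩

theorem subtype_isHom : IsHom (posGrading (n := n) (subGr (fun i : ℕ => ℳ i) P⁺)) (modGrading (ι := Fin (n + 1)) ℳ)
    (P⁺).subtype := by
  intro d y hy
  rcases mem_posGrading _ hy with ⟨hy, hd⟩ | hy
  · show (y : M) ∈ ℳ d
    rw [← Int.toNat_of_nonneg hd]
    exact hy
  · rw [hy, map_zero]
    exact zero_mem _

theorem sysMap_subtype_bijective (t : ℤ) (s : Finset (Fin (n + 1))) (hs : s.Nonempty) :
    Function.Bijective ((sysMap _ _ (P⁺).subtype (subtype_isHom ℳ) t).app s).hom := by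
  refine ⟨fun z z' e => ?_, fun w => ?_⟩
  · apply Subtype.ext
    exact LocalizedModule.map_injective _ (P⁺).subtype Subtype.val_injective (congrArg Subtype.val e)
  · obtain ⟨m, y, hy, hw⟩ := w.2
    obtain ⟨N, hN⟩ : ∃ N : ℕ, 0 ≤ t + (m + N : ℕ) * (s.card : ℤ) := by
      refine ⟨(-t).toNat, ?_⟩
      have h1 : (1 : ℤ) ≤ s.card := by exact_mod_cast hs.card_pos
      push_cast
      nlinarith [Int.self_le_toNat (-t)]
    have hy' : xs k s ^ N • y ∈ ℳ (t + (m + N : ℕ) * (s.card : ℤ)) :=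
      pow_xs_smul_mem (modGrading (ι := Fin (n + 1)) ℳ) s N hy (by push_cast; ring)
    rw [← Int.toNat_of_nonneg hN] at hy'
    have hP : xs k s ^ N • y ∈ P⁺ := le_posPart (𝒜 := 𝒮) ℳ _ hy'
    have hp : (⟨_, hP⟩ : P⁺) ∈ (posGrading (n := n) (subGr (fun i : ℕ => ℳ i) P⁺)).piece
        (t + (m + N : ℕ) * (s.card : ℤ)) := by
      rw [← Int.toNat_of_nonneg hN, posGrading_piece_natCast]
      exact hy'
    refine ⟨⟨_, m + N, ⟨_, hP⟩, hp, rfl⟩, Subtype.ext ?_⟩
    show locMap (P⁺).subtype s (frac s (⟨_, hP⟩ : P⁺) (m + N)) = w.1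
    rw [locMap_frac, hw]
    exact frac_mul s y m N

variable {ℳ} (F : GrSyz.FreeRes (GrSyz.stdGr k (Fin (n + 1))) ℳ)

/-- Vanishing of the cohomology of the twists of the sheaf of a graded module with a free resolution
generated in low degrees. -/
theorem subsingleton_HH_of_isGenLE {d : ℤ} (hF : F.IsGenLE d) (p : ℕ) (t : ℤ) (hp : 1 ≤ p) (hpn : p ≤ n)
    (ht : d - p ≤ t) :
    Subsingleton (Coh.HH (CohB1.ProjSpace n k)
      (CohB1.tensorMod (X := CohB1.ProjSpace n k) (GrTilde.tilde 𝒮 (fun i : ℕ => ℳ i) 0) (Twist.twistProjSpace n k t)) p) := by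
  letI : DirectSum.Decomposition (subGr (fun i : ℕ => ℳ i) P⁺) :=
    (isInternal_posPart (𝒜 := 𝒮) ℳ).chooseDecomposition _
  obtain ⟨e₁⟩ := twistBy_iso (𝒜 := 𝒮) (ℳ := fun i : ℕ => ℳ i) (p := 0) (n := t) (zero_add t) (hcov (n := n) (k := k))
  obtain ⟨e₂⟩ := tilde_sub_iso (𝒜 := 𝒮) (fun i : ℕ => ℳ i) P⁺ (le_posPart (𝒜 := 𝒮) ℳ) t
  refine subsingleton_HH_of_iso (X := CohB1.ProjSpace n k) (e₁.trans e₂.symm) p (subsingleton_HH_tilde _ t p ?_)
  exact (isZero_H_mod F hF p t hp (by simpa using Nat.lt_succ_of_le hpn) ht).of_iso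
    (hIsoOfBijective _ (sysMap_subtype_bijective ℳ t) p)

end PnTildeLib

end
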