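import Mathlib
import Groth.Agent.PnTildeLib.Main
import Groth.Agent.PnTildeLib.Flasque

/-!
# Global sections and higher cohomology of the sheaf of a graded module by the Čech complex, in both directions
-/

set_option autoImplicit false
universe u

open CategoryTheory CategoryTheory.Limits AlgebraicGeometry TopologicalSpace Opposite MvPolynomial
open GrTildeLib GradedCechLib

noncomputable section

namespace PnTildeLib

variable {n : ℕ} {R : Type u} [CommRing R] {N : Type u} [AddCommGroup N] [Module (Poly n R) N] [Module R N]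
  [IsScalarTower R (Poly n R) N] (ℳ : ℕ → Submodule R N) [SetLike.GradedSMul (CohB1.polyGrading n R) ℳ]

theorem isZero_H_of_subsingleton [DirectSum.Decomposition ℳ] (t : ℤ) (p : ℕ)
    (h : Subsingleton (Coh.HH (CohB1.ProjSpace n R) (GrTilde.tilde (CohB1.polyGrading n R) ℳ t) p)) :
    IsZero (H (locSys (posGrading (n := n) ℳ) t) p) := by
  haveI : Coh.IsQCoh (X := CohB1.ProjSpace n R) (GrTilde.tilde (CohB1.polyGrading n R) ℳ t) := GrTildeLib.isQCoh_tilde t
  obtain ⟨e, -⟩ := exists_HH_equiv (M := tl (n := n) ℳ t) p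
  haveI := h
  haveI : Subsingleton (H (secSys (tl (n := n) ℳ t)) p) := e.injective.subsingleton
  exact (ModuleCat.isZero_of_subsingleton _).of_iso
    (hIsoOfBijective (toSys ℳ t) (toSys_bijective ℳ t) p)

theorem val_fracToSec_res (t : ℤ) {s s' : Finset (Fin (n + 1))} (h : s ⊆ s') (z : locPiece (posGrading (n := n) ℳ) t s)
    (x : (Uof s' : (CohB1.ProjSpace n R).Opens)) :
    val (fracToSec ℳ t s' (res (locSys (posGrading (n := n) ℳ) t) h z)) x =
      val (fracToSec ℳ t s z) ⟨x.1, (Finset.inf_mono (f := QCohLib.stdOpen n R) h) x.2⟩ :=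
  by
  show valLin s' x (transLin h z.1) = valLin s ⟨x.1, (Finset.inf_mono (f := QCohLib.stdOpen n R) h) x.2⟩ z.1
  obtain ⟨m, y, -, hz⟩ := z.2
  rw [hz, transLin_frac, valLin_frac, valLin_frac]
  refine mk_congr ?_
  show xs R s ^ m • xs R (s' \ s) ^ m • y = xs R s' ^ m • y
  rw [smul_smul, ← mul_pow, xs_mul_sdiff h]

/-- The value at a point of an element of the system of sections. -/
def secVal {t : ℤ} {s : Finset (Fin (n + 1))} (σ : (secSys (tl (n := n) ℳ t)).obj s)
    (x : (Uof s : (Proj (CohB1.polyGrading n R)).Opens)) : GrTilde.LocMod (CohB1.polyGrading n R) (M := N) (pt x.1) :=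
  GrTildeLib.val (𝒜 := CohB1.polyGrading n R) (ℳ := ℳ) (n := t) (toS (tl (n := n) ℳ t) σ) x

theorem secVal_res {t : ℤ} {s s' : Finset (Fin (n + 1))} (h : s ⊆ s') (σ : (secSys (tl (n := n) ℳ t)).obj s)
    (x : (Uof s' : (Proj (CohB1.polyGrading n R)).Opens)) :
    secVal ℳ (res (secSys (tl (n := n) ℳ t)) h σ) x =
      secVal ℳ σ ⟨x.1, (Finset.inf_mono (f := QCohLib.stdOpen n R) h) x.2⟩ := rfl

theorem secVal_toSys {t : ℤ} {s : Finset (Fin (n + 1))} (z : (locSys (posGrading (n := n) ℳ) t).obj s)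
    (x : (Uof s : (Proj (CohB1.polyGrading n R)).Opens)) :
    secVal ℳ (((toSys (n := n) ℳ t).app s).hom z) x = val (fracToSec ℳ t s z) x := rfl

theorem secVal_ext {t : ℤ} {s : Finset (Fin (n + 1))} {σ σ' : (secSys (tl (n := n) ℳ t)).obj s}
    (h : ∀ x, secVal ℳ σ x = secVal ℳ σ' x) : σ = σ' :=
  (toS (tl (n := n) ℳ t)).injective (sec_ext (V := (Uof s : (Proj (CohB1.polyGrading n R)).Opens)) h)

theorem exists_secVal {t : ℤ} {s : Finset (Fin (n + 1))}
    (q : ∀ x : (Uof s : (Proj (CohB1.polyGrading n R)).Opens), GrTilde.LocMod (CohB1.polyGrading n R) (M := N) (pt x.1))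
    (hloc : ∀ x : (Uof s : (Proj (CohB1.polyGrading n R)).Opens),
        ∃ (W : (Proj (CohB1.polyGrading n R)).Opens) (_ : x.1 ∈ W) (hW : W ≤ Uof s)
          (i j : ℕ) (m : N) (a : Poly n R) (_ : m ∈ ℳ i) (_ : a ∈ CohB1.polyGrading n R j)
          (hnin : ∀ y : W, a ∉ y.1.asHomogeneousIdeal), ((i : ℤ) = j + t ∨ m = 0) ∧
          ∀ y : W, q ⟨y.1, hW y.2⟩ = LocalizedModule.mk m ⟨a, hnin y⟩) :
    ∃ σ : (secSys (tl (n := n) ℳ t)).obj s, ∀ x, secVal ℳ σ x = q x :=
  ⟨(toS (tl (n := n) ℳ t)).symm (secOf (V := (Uof s : (Proj (CohB1.polyGrading n R)).Opens)) q hloc), fun _ => rfl⟩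

theorem mem_Uof_single {x : CohB1.ProjSpace n R} {i : Fin (n + 1)} (hi : x ∈ QCohLib.stdOpen n R i) :
    x ∈ (Uof (rng (fun _ : Fin 1 => i)) : (CohB1.ProjSpace n R).Opens) :=
  (mem_Uof_iff _ x).2 fun j hj => by
    simp [rng] at hj
    subst hj
    exact hi

theorem exists_mem_stdOpen (x : CohB1.ProjSpace n R) : ∃ i, x ∈ QCohLib.stdOpen n R i :=
  Opens.mem_iSup.1 ((QCohLib.iSup_stdOpen n R).ge (Opens.mem_top x))

/-- Compatible families glue to global sections of the sheaf. -/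
theorem glue_iff_surjective [DirectSum.Decomposition ℳ] (t : ℤ) :
    Glue (locSys (posGrading (n := n) ℳ) t) ↔
      Function.Surjective ((toSys (n := n) ℳ t).app ∅).hom := by
  constructor
  · intro hG σ
    choose c hc using fun J : Fin 1 → Fin (n + 1) => (toSys_bijective ℳ t _ (rng_nonempty J)).2
      (res (secSys (tl (n := n) ℳ t)) (Finset.empty_subset (rng J)) σ)
    obtain ⟨v, hv⟩ := hG c (funext fun J => (toSys_bijective ℳ t _ (rng_nonempty J)).1 (by
      rw [← dd_map (toSys ℳ t) 0 c J, funext hc, dd_const, Pi.zero_apply, Pi.zero_apply, map_zero]))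
    refine ⟨v, secVal_ext ℳ fun x => ?_⟩
    obtain ⟨i, hi⟩ := exists_mem_stdOpen x.1
    have h := hc (fun _ => i)
    rw [hv, app_res] at h
    have h' := congrArg (fun w => secVal ℳ w ⟨x.1, mem_Uof_single hi⟩) h
    simp only [secVal_res] at h'
    exact h'
  · intro hsur c hc
    let q : ∀ x : (Uof (∅ : Finset (Fin (n + 1))) : (CohB1.ProjSpace n R).Opens),
        GrTilde.LocMod (CohB1.polyGrading n R) (M := N) (pt x.1) :=
      fun x => val (fracToSec ℳ t _ (c (fun _ => (exists_mem_stdOpen x.1).choose)))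
        ⟨x.1, mem_Uof_single (exists_mem_stdOpen x.1).choose_spec⟩
    have hq : ∀ (J : Fin 1 → Fin (n + 1)) (x : (Uof (rng J) : (CohB1.ProjSpace n R).Opens)),
        val (fracToSec ℳ t _ (c J)) x = q ⟨x.1, (Finset.inf_mono (f := QCohLib.stdOpen n R) (Finset.empty_subset _)) x.2⟩ := by
      intro J x
      let K : Fin 1 → Fin (n + 1) := fun _ => (exists_mem_stdOpen x.1).choose
      have hx : x.1 ∈ (Uof (rng J ∪ rng K) : (CohB1.ProjSpace n R).Opens) := (mem_Uof_iff _ _).2 fun j hj => by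
        rcases Finset.mem_union.1 hj with hj | hj
        · exact (mem_Uof_iff _ _).1 x.2 j hj
        · exact (mem_Uof_iff _ _).1 (mem_Uof_single (exists_mem_stdOpen x.1).choose_spec) j hj
      have h1 := val_fracToSec_res ℳ t (Finset.subset_union_left (s₂ := rng K)) (c J) ⟨x.1, hx⟩
      have h2 := val_fracToSec_res ℳ t (Finset.subset_union_right (s₁ := rng J)) (c K) ⟨x.1, hx⟩
      exact h1.symm.trans ((congrArg (fun z => val (fracToSec ℳ t _ z) ⟨x.1, hx⟩)
        (compat hc J K Finset.subset_union_left Finset.subset_union_right)).trans h2)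
    have hloc : ∀ x : (Uof (∅ : Finset (Fin (n + 1))) : (Proj (CohB1.polyGrading n R)).Opens),
        ∃ (W : (Proj (CohB1.polyGrading n R)).Opens) (_ : x.1 ∈ W) (hW : W ≤ Uof (∅ : Finset (Fin (n + 1))))
          (i j : ℕ) (m : N) (s : Poly n R) (_ : m ∈ ℳ i) (_ : s ∈ CohB1.polyGrading n R j)
          (hnin : ∀ y : W, s ∉ y.1.asHomogeneousIdeal), ((i : ℤ) = j + t ∨ m = 0) ∧
          ∀ y : W, q ⟨y.1, hW y.2⟩ = LocalizedModule.mk m ⟨s, hnin y⟩ := fun x => by
      obtain ⟨i, hi⟩ := exists_mem_stdOpen x.1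
      obtain ⟨W, hxW, hW, a, b, m, s, hm, hs, hnin, hd, hv⟩ :=
        val_exists (fracToSec ℳ t _ (c fun _ => i)) ⟨x.1, mem_Uof_single hi⟩
      exact ⟨W, hxW, le_trans hW (Finset.inf_mono (f := QCohLib.stdOpen n R) (Finset.empty_subset _)),
        a, b, m, s, hm, hs, hnin, hd, fun y => (hq (fun _ => i) ⟨y.1, hW y.2⟩).symm.trans (hv y)⟩
    obtain ⟨σ, hσ⟩ := exists_secVal ℳ q hloc
    obtain ⟨v, hv⟩ := hsur σ
    refine ⟨v, fun J => (toSys_bijective ℳ t _ (rng_nonempty J)).1 (secVal_ext ℳ fun x => ?_)⟩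
    rw [app_res, hv, secVal_res, hσ, secVal_toSys]
    exact hq J x

section Int

variable {k : Type u} [CommRing k] {M : Type u} [AddCommGroup M] [Module k M]
  [Module (MvPolynomial (Fin (n + 1)) k) M] [IsScalarTower k (MvPolynomial (Fin (n + 1)) k) M]
  (ℳz : ℤ → Submodule k M) [DirectSum.Decomposition ℳz] [SetLike.GradedSMul (GrSyz.stdGr k (Fin (n + 1))) ℳz]
  [SetLike.GradedSMul (CohB1.polyGrading n k) fun i : ℕ => ℳz i]

local notation "P⁺" => posPart (𝒜 := CohB1.polyGrading n k) ℳz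

theorem subsingleton_HH_twist_iff (p : ℕ) (t : ℤ) :
    Subsingleton (Coh.HH (CohB1.ProjSpace n k) (CohB1.tensorMod (X := CohB1.ProjSpace n k)
      (GrTilde.tilde (CohB1.polyGrading n k) (fun i : ℕ => ℳz i) 0) (Twist.twistProjSpace n k t)) p) ↔
    IsZero (H (locSys (modGrading (ι := Fin (n + 1)) ℳz) t) p) := by
  letI : DirectSum.Decomposition (subGr (fun i : ℕ => ℳz i) P⁺) :=
    (isInternal_posPart (𝒜 := CohB1.polyGrading n k) ℳz).chooseDecomposition _
  obtain ⟨e₁⟩ := twistBy_iso (𝒜 := CohB1.polyGrading n k) (ℳ := fun i : ℕ => ℳz i) (p := 0) (n := t) (zero_add t)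
    (hcov (n := n) (k := k))
  obtain ⟨e₂⟩ := tilde_sub_iso (𝒜 := CohB1.polyGrading n k) (fun i : ℕ => ℳz i) P⁺
    (le_posPart (𝒜 := CohB1.polyGrading n k) ℳz) t
  let j := hIsoOfBijective _ (sysMap_subtype_bijective (n := n) ℳz t) p
  constructor
  · intro h
    exact (isZero_H_of_subsingleton _ t p
      (subsingleton_HH_of_iso (X := CohB1.ProjSpace n k) (e₁.trans e₂.symm).symm p h)).of_iso j.symm
  · intro h
    exact subsingleton_HH_of_iso (X := CohB1.ProjSpace n k) (e₁.trans e₂.symm) p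
      (subsingleton_HH_tilde _ t p (h.of_iso j))

theorem sysMap_subtype_bijective_all (d : ℕ) (s : Finset (Fin (n + 1))) :
    Function.Bijective ((sysMap _ _ (P⁺).subtype (subtype_isHom ℳz) (d : ℤ)).app s).hom := by
  rcases s.eq_empty_or_nonempty with rfl | hs
  · refine ⟨fun z z' e => ?_, fun w => ?_⟩
    · apply Subtype.ext
      exact LocalizedModule.map_injective _ (P⁺).subtype Subtype.val_injective (congrArg Subtype.val e)
    · obtain ⟨y, hy, rfl⟩ := exists_cls w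
      have hP : (⟨y, le_posPart (𝒜 := CohB1.polyGrading n k) ℳz d hy⟩ : P⁺) ∈
          (posGrading (n := n) (subGr (fun i : ℕ => ℳz i) P⁺)).piece (d : ℤ) := by
        rw [posGrading_piece_natCast]; exact hy
      exact ⟨cls _ _ hP, app_cls _ hP⟩
  · exact sysMap_subtype_bijective (n := n) ℳz _ s hs

/-- A global section of the sheaf of the non-negative part as a global section of the sheaf of the module. -/
def toGlobal {t : ℤ} (σ : (secSys (tl (n := n) (subGr (fun i : ℕ => ℳz i) P⁺) t)).obj ∅) :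
    GrTilde.sect (CohB1.polyGrading n k) (fun i : ℕ => ℳz i) t (op ⊤) :=
  inclSec (fun i : ℕ => ℳz i) P⁺ (toS (tl (n := n) (subGr (fun i : ℕ => ℳz i) P⁺) t) σ)

theorem toGlobal_injective {t : ℤ} :
    Function.Injective (toGlobal (n := n) ℳz (t := t)) := fun a b e =>
  secVal_ext _ fun x => locIncl_injective P⁺ x.1
    (congrArg (fun z : GrTilde.sect (CohB1.polyGrading n k) (fun i : ℕ => ℳz i) t (op ⊤) =>
      ((z.1 ⟨x.1, trivial⟩ : GrTilde.tildeAt (CohB1.polyGrading n k) (fun i : ℕ => ℳz i) t x.1) :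
        GrTilde.LocMod (CohB1.polyGrading n k) (M := M) x.1)) e)

theorem toGlobal_surjective {t : ℤ} : Function.Surjective (toGlobal (n := n) ℳz (t := t)) := by
  intro g
  let φ := inclHom (𝒜 := CohB1.polyGrading n k) (fun i : ℕ => ℳz i) P⁺ t
  haveI : IsIso φ := isIso_inclHom (𝒜 := CohB1.polyGrading n k) (fun i : ℕ => ℳz i) P⁺
    (le_posPart (𝒜 := CohB1.polyGrading n k) ℳz) t
  have hb := (ConcreteCategory.isIso_iff_bijective (φ.app (⊤ : (Proj (CohB1.polyGrading n k)).Opens))).1 inferInstance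
  obtain ⟨σ, hσ⟩ := hb.2 (show Γ(GrTilde.tilde (CohB1.polyGrading n k) (fun i : ℕ => ℳz i) t, ⊤) from g)
  exact ⟨(toS (tl (n := n) (subGr (fun i : ℕ => ℳz i) P⁺) t)).symm σ, hσ⟩

theorem toGlobal_toSys_cls (d : ℕ) (m : ↥(ℳz ((d : ℕ) : ℤ)))
    (h : (⟨m, le_posPart (𝒜 := CohB1.polyGrading n k) ℳz d m.2⟩ : P⁺) ∈
      (posGrading (n := n) (subGr (fun i : ℕ => ℳz i) P⁺)).piece (d : ℤ)) :
    toGlobal (n := n) ℳz (((toSys (subGr (fun i : ℕ => ℳz i) P⁺) (d : ℤ)).app ∅).hom (cls _ _ h)) =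
      GrTilde.globalOf (CohB1.polyGrading n k) (fun i : ℕ => ℳz i) m := by
  refine Subtype.ext (funext fun x => Subtype.ext ?_)
  show locIncl P⁺ x.1 (valLin ∅ ⟨x.1, trivial⟩ (frac ∅ (⟨(m : M), le_posPart (𝒜 := CohB1.polyGrading n k) ℳz d m.2⟩ : P⁺) 0)) =
    LocalizedModule.mk (m : M) 1
  rw [valLin_frac, locIncl_mk]
  exact mk_congr (by simp)

set_option maxHeartbeats 1000000 in
theorem glue_iff_globalOf (d : ℕ) :
    Glue (locSys (modGrading (ι := Fin (n + 1)) ℳz) (d : ℤ)) ↔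
      Function.Surjective (fun m : ↥(ℳz ((d : ℕ) : ℤ)) =>
        GrTilde.globalOf (CohB1.polyGrading n k) (fun i : ℕ => ℳz i) m) := by
  letI : DirectSum.Decomposition (subGr (fun i : ℕ => ℳz i) P⁺) :=
    (isInternal_posPart (𝒜 := CohB1.polyGrading n k) ℳz).chooseDecomposition _
  rw [← glue_congr _ (sysMap_subtype_bijective_all (n := n) ℳz d), glue_iff_surjective]
  constructor
  · intro h g
    obtain ⟨σ, hσ⟩ := toGlobal_surjective (n := n) ℳz (t := ((d : ℕ) : ℤ)) g
    obtain ⟨v, hv⟩ := h σ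
    obtain ⟨⟨y, hP⟩, hy, hcls⟩ := exists_cls v
    have hy' : y ∈ ℳz ((d : ℕ) : ℤ) := by
      have := hy
      rw [posGrading_piece_natCast] at this
      exact this
    refine ⟨⟨y, hy'⟩, Eq.trans ?_ hσ⟩
    rw [← hv, hcls]
    exact (toGlobal_toSys_cls ℳz d ⟨y, hy'⟩ hy).symm
  · intro h σ
    obtain ⟨m, hm⟩ := h (toGlobal (n := n) ℳz σ)
    refine ⟨cls _ _ (?_ : (⟨m, le_posPart (𝒜 := CohB1.polyGrading n k) ℳz d m.2⟩ : P⁺) ∈ _),
      toGlobal_injective ℳz ((toGlobal_toSys_cls ℳz d m _).trans hm)⟩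
    rw [posGrading_piece_natCast]
    exact m.2

end Int

end PnTildeLib

end
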