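import Mathlib
import Groth.Prelude.Def_GrLC
import Groth.Prelude.Def_GrSyz
import Groth.Agent.GrModLib.Basic
import Groth.Agent.PnTildeLib.Resolution
import Groth.Agent.PnTildeLib.Flasque

/-!
# Injective objects of the graded category over a polynomial ring give flasque systems
-/

set_option autoImplicit false
universe u

open CategoryTheory CategoryTheory.Limits MvPolynomial GradedCechLib

noncomputable section

namespace PnTildeLib

variable {k : Type u} [CommRing k] {σ : Type} [Fintype σ] [DecidableEq σ]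

local notation "Sk" => MvPolynomial σ k

/-- Restriction of scalars of a graded module to the base ring. -/
instance kMod (X : GrLC.GMod.{u} (GrSyz.stdGr k σ)) : Module k X.carrier :=
  Module.compHom X.carrier (C : k →+* MvPolynomial σ k)

instance kTower (X : GrLC.GMod.{u} (GrSyz.stdGr k σ)) : IsScalarTower k Sk X.carrier :=
  ⟨fun c p y => by show (c • p) • y = (C c : Sk) • p • y; rw [smul_eq_C_mul, mul_smul]⟩

theorem C_mem_stdGr (c : k) : (C c : Sk) ∈ GrSyz.stdGr k σ 0 := by
  rw [GrSyz.mem_stdGr_iff]; exact isWeightedHomogeneous_C _ c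

theorem gmod_smul_mem (X : GrLC.GMod.{u} (GrSyz.stdGr k σ)) {a b c : ℤ} {p : Sk} {y : X.carrier}
    (hp : p ∈ GrSyz.stdGr k σ a) (hy : y ∈ X.gr b) (h : a + b = c) : p • y ∈ X.gr c :=
  h ▸ SetLike.GradedSMul.smul_mem (A := GrSyz.stdGr k σ) (B := X.gr) hp hy

/-- The grading of a graded module. -/
def xGrading (X : GrLC.GMod.{u} (GrSyz.stdGr k σ)) : Grading k σ X.carrier where
  piece d :=
    { carrier := X.gr d
      zero_mem' := zero_mem _
      add_mem' := add_mem
      smul_mem' := fun c _ hy => gmod_smul_mem X (C_mem_stdGr c) hy (zero_add d) }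
  X_smul_mem i d _ hy := gmod_smul_mem X (X_mem_stdGr i) hy (add_comm 1 d)

variable (k) in
/-- An ideal generated by powers of variables. -/
def powIdeal (D : Finset σ) (N : σ → ℕ) : Ideal Sk :=
  Ideal.span ((fun e => monomial e (1 : k)) '' ((fun i => Finsupp.single i (N i)) '' (D : Set σ)))

theorem mem_powIdeal_iff {D : Finset σ} {N : σ → ℕ} {p : Sk} :
    p ∈ powIdeal k D N ↔ ∀ e ∈ p.support, ∃ i ∈ D, N i ≤ e i := by
  rw [powIdeal, mem_ideal_span_monomial_image]
  simp [Finsupp.single_le_iff]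

theorem X_pow_mem_powIdeal {D : Finset σ} {N : σ → ℕ} {i : σ} (hi : i ∈ D) :
    (X i : Sk) ^ N i ∈ powIdeal k D N := by
  rw [X_pow_eq_monomial]
  exact Ideal.subset_span ⟨_, ⟨i, hi, rfl⟩, rfl⟩

theorem powIdeal_component {D : Finset σ} {N : σ → ℕ} (g : ℤ) {p : Sk} (hp : p ∈ powIdeal k D N) :
    weightedHomogeneousComponent (fun _ : σ => (1 : ℤ)) g p ∈ powIdeal k D N := by
  rw [mem_powIdeal_iff] at hp ⊢
  intro e he
  rw [mem_support_iff, coeff_weightedHomogeneousComponent] at he
  split_ifs at he with h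
  · exact hp e (mem_support_iff.2 he)
  · exact absurd rfl he

variable (k) in
/-- The non-zero-divisors on the quotient by a power ideal. -/
def colonMonoid (D : Finset σ) (N : σ → ℕ) : Submonoid Sk where
  carrier := {f | ∀ p, p * f ∈ powIdeal k D N → p ∈ powIdeal k D N}
  one_mem' p h := by rwa [mul_one] at h
  mul_mem' {a b} ha hb p h := ha p (hb _ (by rwa [mul_assoc]))

theorem X_mem_colonMonoid {D : Finset σ} {N : σ → ℕ} {l : σ} (hl : l ∉ D) :
    (X l : Sk) ∈ colonMonoid k D N := by
  intro p h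
  rw [mem_powIdeal_iff] at h ⊢
  intro e he
  obtain ⟨i, hi, hN⟩ := h (e + Finsupp.single l 1)
    (mem_support_iff.2 (by rw [coeff_mul_X]; exact mem_support_iff.1 he))
  refine ⟨i, hi, ?_⟩
  have hil : i ≠ l := fun h => hl (h ▸ hi)
  rwa [Finsupp.add_apply, Finsupp.single_eq_of_ne hil, add_zero] at hN

/-- The shifted pieces of a quotient by a power ideal. -/
def qGr (D : Finset σ) (N : σ → ℕ) (c : ℤ) (g : ℤ) : AddSubgroup (Sk ⧸ powIdeal k D N) :=
  (GrSyz.stdGr k σ (g - c)).toAddSubgroup.map (Submodule.mkQ (powIdeal k D N)).toAddMonoidHom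

theorem qGr_isInternal (D : Finset σ) (N : σ → ℕ) (c : ℤ) :
    DirectSum.IsInternal (qGr (k := k) D N c) := by
  let w : σ → ℤ := fun _ => 1
  refine GrModLib.isInternal_of_pr _ (fun g => QuotientAddGroup.lift (powIdeal k D N).toAddSubgroup
    ((Submodule.mkQ (powIdeal k D N)).toAddMonoidHom.comp (weightedHomogeneousComponent w (g - c)).toAddMonoidHom)
    fun p hp => (Submodule.Quotient.mk_eq_zero _).2 (powIdeal_component _ hp)) ?_ ?_ ?_
  · rintro g _ ⟨p, hp, rfl⟩
    exact congrArg (Submodule.mkQ (powIdeal k D N))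
      (IsWeightedHomogeneous.weightedHomogeneousComponent_same ((GrSyz.mem_stdGr_iff k σ _ p).1 hp))
  · rintro g j _ ⟨p, hp, rfl⟩ hj
    show Submodule.mkQ (powIdeal k D N) (weightedHomogeneousComponent w (g - c) p) = 0
    rw [IsWeightedHomogeneous.weightedHomogeneousComponent_ne _ ((GrSyz.mem_stdGr_iff k σ _ p).1 hp)
      (fun e => hj (sub_left_injective e.symm)), map_zero]
  · intro x
    obtain ⟨p, rfl⟩ := Submodule.mkQ_surjective _ x
    induction p using MvPolynomial.induction_on' with
    | monomial e a =>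
      exact le_iSup (qGr (k := k) D N c) (∑ i, (e i : ℤ) + c)
        ⟨_, by simpa using monomial_mem_stdGr e a, rfl⟩
    | add p q hp hq => rw [map_add]; exact add_mem hp hq

instance qGr_smul (D : Finset σ) (N : σ → ℕ) (c : ℤ) :
    SetLike.GradedSMul (GrSyz.stdGr k σ) (qGr (k := k) D N c) :=
  ⟨fun {h g r m} hr hm => by
    obtain ⟨p, hp, rfl⟩ := hm
    refine ⟨r * p, ?_, (map_smul (Submodule.mkQ (powIdeal k D N)) r p)⟩
    have := SetLike.mul_mem_graded hr hp
    rwa [← add_sub_assoc] at this⟩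

/-- The quotient by a power ideal as a shifted graded module. -/
def qMod (D : Finset σ) (N : σ → ℕ) (c : ℤ) : GrLC.GMod.{u} (GrSyz.stdGr k σ) :=
  letI := (qGr_isInternal (k := k) D N c).chooseDecomposition
  { carrier := Sk ⧸ powIdeal k D N, gr := qGr D N c }

variable {X : GrLC.GMod.{u} (GrSyz.stdGr k σ)} (hX : GrLC.IsStarInj (GrSyz.stdGr k σ) X.gr)

include hX in
theorem exists_lift (D : Finset σ) (N : σ → ℕ) {f : Sk} (hf : f ∈ colonMonoid k D N) {a t : ℤ}
    (hfd : f ∈ GrSyz.stdGr k σ a) {w : X.carrier} (hw : w ∈ X.gr (t + a))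
    (hN : ∀ i ∈ D, (MvPolynomial.X i : Sk) ^ N i • w = 0) :
    ∃ v ∈ X.gr t, f • v = w ∧ ∀ i ∈ D, (MvPolynomial.X i : Sk) ^ N i • v = 0 := by
  let J : Submodule Sk Sk := powIdeal k D N
  let φ : (qMod (k := k) D N (t + a)).carrier →ₗ[Sk] (qMod (k := k) D N t).carrier :=
    Submodule.mapQ J J (LinearMap.mulRight Sk f) fun p hp => Ideal.mul_mem_right _ _ hp
  have hann : J ≤ LinearMap.ker (LinearMap.toSpanSingleton Sk X.carrier w) := by
    refine Ideal.span_le.2 ?_
    rintro _ ⟨_, ⟨i, hi, rfl⟩, rfl⟩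
    show monomial (Finsupp.single i (N i)) (1 : k) • w = 0
    rw [← X_pow_eq_monomial]
    exact hN i hi
  let g : (qMod (k := k) D N (t + a)).carrier →ₗ[Sk] X.carrier :=
    Submodule.liftQ J (LinearMap.toSpanSingleton Sk X.carrier w) hann
  obtain ⟨h, hh, hcomp⟩ := hX _ _ φ
    (fun d m hm => by
      obtain ⟨p, hp, rfl⟩ := hm
      refine ⟨p * f, ?_, rfl⟩
      have := SetLike.mul_mem_graded (A := GrSyz.stdGr k σ) hp hfd
      rwa [show d - (t + a) + a = d - t by ring] at this)
    (by
      refine (injective_iff_map_eq_zero φ).2 fun x => ?_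
      obtain ⟨p, rfl⟩ := Submodule.mkQ_surjective J x
      intro hp
      exact (Submodule.Quotient.mk_eq_zero J).2 (hf p ((Submodule.Quotient.mk_eq_zero J).1 hp)))
    g (fun d m hm => by
      obtain ⟨p, hp, rfl⟩ := hm
      show p • w ∈ X.gr d
      exact gmod_smul_mem X hp hw (sub_add_cancel d (t + a)))
  have h1 : (Submodule.Quotient.mk (1 : Sk) : (qMod (k := k) D N t).carrier) ∈ (qMod (k := k) D N t).gr t :=
    ⟨1, by rw [sub_self]; exact SetLike.GradedOne.one_mem (A := GrSyz.stdGr k σ), rfl⟩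
  refine ⟨_, hh t _ h1, ?_, fun i hi => ?_⟩
  · rw [← map_smul]
    refine Eq.trans ?_ ((LinearMap.congr_fun hcomp (Submodule.Quotient.mk (1 : Sk))).trans (one_smul Sk w))
    refine congrArg h ?_
    show Submodule.Quotient.mk (f • (1 : Sk)) = Submodule.Quotient.mk ((1 : Sk) * f)
    rw [smul_eq_mul, mul_one, one_mul]
  · rw [← map_smul, ← map_zero h]
    refine congrArg h ((Submodule.Quotient.mk_eq_zero J).2 ?_)
    show (MvPolynomial.X i : Sk) ^ N i * 1 ∈ powIdeal k D N
    rw [mul_one]
    exact X_pow_mem_powIdeal hi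

theorem res_cls_singleton_eq_zero {N : Type u} [AddCommGroup N] [Module Sk N] [Module k N] [IsScalarTower k Sk N]
    {G : Grading k σ N} {d : ℤ} {y : N} (hy : y ∈ G.piece d) (i : σ) {m : ℕ}
    (hm : (MvPolynomial.X i : Sk) ^ m • y = 0) :
    res (locSys G d) (Finset.empty_subset (insert i ∅)) (cls G y hy) = 0 := by
  refine Subtype.ext ((val_res_cls hy _).trans ?_)
  refine Eq.trans (frac_eq_frac_iff.2 ⟨m, ?_⟩) (LocalizedModule.zero_mk (pw k _ 0))
  rw [show xs k (insert i (∅ : Finset σ)) = MvPolynomial.X i by simp [xs], smul_zero, add_zero, hm]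

include hX in
/-- **The system of an injective graded module is flasque.** -/
theorem flasque_xGrading (t : ℤ) : Flasque (locSys (xGrading X) t) := by
  intro D s z hz
  by_cases hsD : ∃ i ∈ D, i ∈ s
  · obtain ⟨i, hi, his⟩ := hsD
    have h0 : z = 0 := (res_bijective_of_subset (L := locSys (xGrading X) t) (Finset.subset_insert i s)
      (Finset.insert_subset his (le_refl s))).1 ((hz i hi).trans (map_zero _).symm)
    exact ⟨0, by rw [map_zero, h0], fun j _ => map_zero _⟩
  · push Not at hsD
    obtain ⟨zz, m, w, hw, rfl⟩ := z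
    have key : ∀ i ∈ D, ∃ K : ℕ, (MvPolynomial.X i : Sk) ^ (K + m) • xs k s ^ K • w = 0 := by
      intro i hi
      have h1 : frac (R := k) (insert i s) (xs k (insert i s \ s) ^ m • w) m = frac (insert i s) (0 : X.carrier) 0 :=
        (transLin_frac (Finset.subset_insert i s) w m).symm.trans
          ((congrArg Subtype.val (hz i hi)).trans (LocalizedModule.zero_mk _).symm)
      obtain ⟨K, hK⟩ := frac_eq_frac_iff.1 h1
      refine ⟨K, ?_⟩
      rw [smul_zero, add_zero, Finset.insert_sdiff_cancel (hsD i hi),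
        show xs k {i} = MvPolynomial.X i by simp [xs], xs, Finset.prod_insert (hsD i hi), mul_pow, mul_smul] at hK
      rw [pow_add, mul_smul]
      refine Eq.trans ?_ hK
      refine congrArg _ ?_
      rw [smul_smul, smul_smul, mul_comm]
      rfl
    choose! K hK using key
    let K0 := D.sup K
    obtain ⟨v, hv, hfv, hvD⟩ := exists_lift hX D (fun i => K i + m) (f := xs k s ^ (m + K0))
      (Submonoid.pow_mem _ (Submonoid.prod_mem _ fun l hl =>
        X_mem_colonMonoid fun hlD => hsD l hlD hl) _)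
      (a := ((m + K0 : ℕ) : ℤ) * s.card) (t := t) (w := xs k s ^ K0 • w)
      (by
        have h1 : xs k s ∈ GrSyz.stdGr k σ (s.card : ℤ) := by
          have h := SetLike.prod_mem_graded (A := GrSyz.stdGr k σ) (F := s) (fun _ => (1 : ℤ))
            (fun i : σ => (MvPolynomial.X i : Sk)) fun i _ => X_mem_stdGr i
          simpa [xs] using h
        have := SetLike.pow_mem_graded (A := GrSyz.stdGr k σ) (m + K0) h1
        rwa [nsmul_eq_mul] at this)
      (pow_xs_smul_mem (xGrading X) s K0 hw (by push_cast; ring))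
      fun i hi => by
        rw [show K0 = (K0 - K i) + K i by have := Finset.le_sup (f := K) hi; omega, pow_add (xs k s), mul_smul,
          smul_comm, hK i hi, smul_zero]
    refine ⟨cls (xGrading X) v hv, Subtype.ext ((val_res_cls _ _).trans ?_), fun i hi =>
      res_cls_singleton_eq_zero (G := xGrading X) hv i (hvD i hi)⟩
    show frac s v 0 = frac s w m
    exact frac_eq_frac_iff.2 ⟨K0, by rw [add_comm K0 m, hfv, add_zero]⟩

end PnTildeLib

end
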