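import Mathlib
import Groth.Agent.PnTildeLib.StarInj

/-!
# Graded local cohomology against the Čech cohomology of the degree parts, through an injective resolution
-/

set_option autoImplicit false
universe u

open CategoryTheory CategoryTheory.Limits MvPolynomial GradedCechLib DirectSum

noncomputable section

namespace PnTildeLib

variable {k : Type u} [CommRing k] {σ : Type} [Fintype σ] [DecidableEq σ]

local notation "Sk" => MvPolynomial σ k

theorem irrel_le_span_X : (GrSyz.irrel (GrSyz.stdGr k σ)).toIdeal ≤ Ideal.span (Set.range (MvPolynomial.X : σ → Sk)) := by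
  refine Ideal.span_le.2 ?_
  rintro p ⟨m, hm, hp⟩
  rw [SetLike.mem_coe, ← Set.image_univ, mem_ideal_span_X_image]
  intro e he
  by_contra h
  push Not at h
  have := sum_of_mem_stdGr hp (mem_support_iff.1 he)
  rw [Finset.sum_eq_zero fun i _ => by rw [h i (Set.mem_univ i), Nat.cast_zero]] at this
  omega

omit [DecidableEq σ] in
theorem mem_gam_irrel_iff {N : Type u} [AddCommGroup N] [Module Sk N] {y : N} :
    y ∈ GrLC.gam (GrSyz.irrel (GrSyz.stdGr k σ)).toIdeal N ↔ ∀ i, ∃ l : ℕ, (MvPolynomial.X i : Sk) ^ l • y = 0 := by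
  classical
  constructor
  · rintro ⟨l, hl⟩ i
    exact ⟨l, hl _ (Ideal.pow_mem_pow (Ideal.subset_span (s := {r : Sk | ∃ n : ℤ, 0 < n ∧ r ∈ GrSyz.stdGr k σ n}) ⟨1, one_pos, X_mem_stdGr i⟩) l)⟩
  · intro h
    obtain ⟨l, hl⟩ := Ideal.exists_pow_le_of_le_radical_of_fg
      (I := Ideal.span (Set.range (MvPolynomial.X : σ → Sk)))
      (J := LinearMap.ker (LinearMap.toSpanSingleton Sk N y))
      (by
        refine Ideal.span_le.2 ?_
        rintro _ ⟨i, rfl⟩
        obtain ⟨l, hl⟩ := h i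
        exact ⟨l, hl⟩)
      (Submodule.fg_span (Set.finite_range _))
    exact ⟨l, fun r hr => hl (Ideal.pow_right_mono irrel_le_span_X l hr)⟩

omit [DecidableEq σ] in
theorem pr_std_smul (X : GrLC.GMod.{u} (GrSyz.stdGr k σ)) {h : ℤ} {r : Sk} (hr : r ∈ GrSyz.stdGr k σ h) (g : ℤ)
    (x : X.carrier) : GrModLib.pr X.gr (h + g) (r • x) = r • GrModLib.pr X.gr g x := by
  induction x using GrModLib.induction X.gr with
  | h0 => simp
  | hmem j m hm =>
    have hrm : r • m ∈ X.gr (h + j) := SetLike.GradedSMul.smul_mem (A := GrSyz.stdGr k σ) (B := X.gr) hr hm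
    by_cases hj : j = g
    · subst hj
      rw [GrModLib.pr_self X.gr hm, GrModLib.pr_self X.gr hrm]
    · rw [GrModLib.pr_ne X.gr hm hj, smul_zero, GrModLib.pr_ne X.gr hrm fun e => hj (add_left_cancel e)]
  | hadd a b ha hb => rw [smul_add, map_add, map_add, ha, hb, smul_add]

omit [DecidableEq σ] in
theorem pr_mem_gam (X : GrLC.GMod.{u} (GrSyz.stdGr k σ)) (g : ℤ) {x : X.carrier}
    (hx : x ∈ GrLC.gam (GrSyz.irrel (GrSyz.stdGr k σ)).toIdeal X.carrier) : GrModLib.pr X.gr g x ∈ GrLC.gam (GrSyz.irrel (GrSyz.stdGr k σ)).toIdeal X.carrier := by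
  classical
  refine mem_gam_irrel_iff.2 fun i => ?_
  obtain ⟨l, hl⟩ := mem_gam_irrel_iff.1 hx i
  have hd := SetLike.pow_mem_graded (A := GrSyz.stdGr k σ) l (X_mem_stdGr (k := k) i)
  exact ⟨l, by rw [← pr_std_smul X hd, hl, map_zero]⟩

variable {M : Type u} [AddCommGroup M] [Module (MvPolynomial σ k) M] [Module k M] [IsScalarTower k (MvPolynomial σ k) M]
  {ℳ : ℤ → Submodule k M} [DirectSum.Decomposition ℳ] [SetLike.GradedSMul (GrSyz.stdGr k σ) ℳ]
  (E : GrLC.StarInjRes (GrSyz.stdGr k σ) ℳ)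

/-- The grading of the cocycles. -/
def kerGrading (n : ℕ) : Grading k σ (LinearMap.ker (E.d n)) where
  piece d := ((xGrading (E.X n)).piece d).comap ((LinearMap.ker (E.d n)).subtype.restrictScalars k)
  X_smul_mem i d y hy := (xGrading (E.X n)).X_smul_mem i d y.1 hy

/-- The differential onto the cocycles. -/
def dTo (n : ℕ) : (E.X n).carrier →ₗ[Sk] LinearMap.ker (E.d (n + 1)) :=
  (E.d n).codRestrict _ fun x => (E.exact_succ n).ge ⟨x, rfl⟩

theorem dTo_surj (n : ℕ) (d : ℤ) (z : LinearMap.ker (E.d (n + 1))) (hz : z ∈ (kerGrading E (n + 1)).piece d) :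
    ∃ y ∈ (xGrading (E.X n)).piece d, dTo E n y = z := by
  obtain ⟨y, hy⟩ := (E.exact_succ n).le z.2
  refine ⟨GrModLib.pr (E.X n).gr d y, GrModLib.pr_mem _ d y, Subtype.ext ?_⟩
  show E.d n (GrModLib.pr (E.X n).gr d y) = z.1
  rw [GrModLib.map_pr (E.d_grHom n), hy]
  exact GrModLib.pr_self _ hz

theorem grExact_cosyz (n : ℕ) :
    GrExact (kerGrading E n) (xGrading (E.X n)) (kerGrading E (n + 1)) (LinearMap.ker (E.d n)).subtype (dTo E n) where
  hom_left _ _ hy := hy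
  hom_right d y hy := E.d_grHom n d y hy
  inj := Subtype.val_injective
  zero y := Subtype.ext y.2
  surj := dTo_surj E n
  exact d y hy e := ⟨⟨y, congrArg Subtype.val e⟩, hy, rfl⟩

omit [DecidableEq σ] in
theorem eps_component (d : ℤ) (m : M) :
    E.ε (decompose ℳ m d : M) = GrModLib.pr (E.X 0).gr d (E.ε m) := by
  induction m using DirectSum.Decomposition.inductionOn (ℳ := ℳ) with
  | zero => simp
  | @homogeneous j b =>
    by_cases hj : j = d
    · subst hj
      rw [decompose_of_mem_same ℳ b.2, GrModLib.pr_self _ (E.ε_grHom j _ b.2)]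
    · rw [decompose_of_mem_ne ℳ b.2 hj, map_zero, GrModLib.pr_ne _ (E.ε_grHom j _ b.2) hj]
  | add a b ha hb => simp [ha, hb]

theorem grExact_eps :
    GrExact (modGrading (ι := σ) ℳ) (xGrading (E.X 0)) (kerGrading E 1) E.ε (dTo E 0) where
  hom_left d y hy := E.ε_grHom d y hy
  hom_right d y hy := E.d_grHom 0 d y hy
  inj := E.ε_injective
  zero y := Subtype.ext (E.exact_zero.ge ⟨y, rfl⟩)
  surj := dTo_surj E 0
  exact d y hy e := by
    obtain ⟨m, rfl⟩ := E.exact_zero.le (LinearMap.mem_ker.2 (congrArg Subtype.val e))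
    exact ⟨(decompose ℳ m d : M), (decompose ℳ m d).2, by rw [eps_component]; exact GrModLib.pr_self _ hy⟩

theorem torSurj_iff (n : ℕ) (t : ℤ) (hb : IsHom (xGrading (E.X n)) (kerGrading E (n + 1)) (dTo E n)) :
    (∀ z, IsTor (locSys (kerGrading E (n + 1)) t) z → ∃ g, IsTor (locSys (xGrading (E.X n)) t) g ∧
      ((sysMap (xGrading (E.X n)) (kerGrading E (n + 1)) (dTo E n) hb t).app ∅).hom g = z) ↔
      E.Hcomp (GrSyz.irrel (GrSyz.stdGr k σ)) (n + 1) t = ⊥ := by
  constructor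
  · intro h
    rw [eq_bot_iff]
    rintro _ ⟨z, hz, rfl⟩
    let z' : LinearMap.ker (E.d (n + 1)) := ⟨z.1, z.2.2⟩
    have hz' : z' ∈ (kerGrading E (n + 1)).piece t := hz
    obtain ⟨g, hg, hgz⟩ := h (cls _ z' hz') ((isTor_cls hz').2 fun i =>
      (mem_gam_irrel_iff.1 z.2.1 i).imp fun l hl => Subtype.ext hl)
    obtain ⟨y, hy, rfl⟩ := exists_cls g
    have e := cls_inj _ _ ((app_cls hb hy).symm.trans hgz)
    refine (Submodule.mem_bot _).2 ((Submodule.Quotient.mk_eq_zero _).2 ?_)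
    exact ⟨y, mem_gam_irrel_iff.2 ((isTor_cls hy).1 hg), congrArg Subtype.val e⟩
  · intro h z hz
    obtain ⟨z', hz', rfl⟩ := exists_cls z
    have hgam : z'.1 ∈ GrLC.gam (GrSyz.irrel (GrSyz.stdGr k σ)).toIdeal (E.X (n + 1)).carrier := mem_gam_irrel_iff.2 fun i =>
      ((isTor_cls hz').1 hz i).imp fun l hl => congrArg Subtype.val hl
    have h0 : E.toH (GrSyz.irrel (GrSyz.stdGr k σ)) (n + 1) ⟨z'.1, hgam, z'.2⟩ = 0 :=
      (Submodule.mem_bot _).1 (h.le ⟨⟨z'.1, hgam, z'.2⟩, hz', rfl⟩)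
    obtain ⟨γ, hγ, hγz⟩ := (Submodule.Quotient.mk_eq_zero _).1 h0
    have hy : GrModLib.pr (E.X n).gr t γ ∈ (xGrading (E.X n)).piece t := GrModLib.pr_mem _ t γ
    refine ⟨cls _ _ hy, (isTor_cls hy).2 (mem_gam_irrel_iff.1 (pr_mem_gam _ t hγ)), (app_cls hb hy).trans ?_⟩
    have e : dTo E n (GrModLib.pr (E.X n).gr t γ) = z' := Subtype.ext (by
      show E.d n (GrModLib.pr (E.X n).gr t γ) = z'.1
      rw [GrModLib.map_pr (E.d_grHom n)]
      exact (congrArg (GrModLib.pr (E.X (n + 1)).gr t) hγz).trans (GrModLib.pr_self _ hz'))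
    exact Subtype.ext (congrArg (fun w : LinearMap.ker (E.d (n + 1)) => frac (R := k) (∅ : Finset σ) w 0) e)

theorem glue_iff_Hcomp (t : ℤ) :
    Glue (locSys (modGrading (ι := σ) ℳ) t) ↔ E.Hcomp (GrSyz.irrel (GrSyz.stdGr k σ)) 1 t = ⊥ :=
  ((exactAll_sys (grExact_eps E) t).glue_iff (flasque_xGrading (E.starInj 0) t).glue).trans
    (torSurj_iff E 0 t _)

theorem glue_cosyz_iff_Hcomp (n : ℕ) (t : ℤ) :
    Glue (locSys (kerGrading E n) t) ↔ E.Hcomp (GrSyz.irrel (GrSyz.stdGr k σ)) (n + 1) t = ⊥ :=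
  ((exactAll_sys (grExact_cosyz E n) t).glue_iff (flasque_xGrading (E.starInj n) t).glue).trans
    (torSurj_iff E n t _)

theorem isZero_cosyz_iff_Hcomp : ∀ (j n : ℕ) (t : ℤ),
    IsZero (H (locSys (kerGrading E n) t) (j + 1)) ↔ E.Hcomp (GrSyz.irrel (GrSyz.stdGr k σ)) (n + j + 2) t = ⊥
  | 0, n, t => ((exactAll_sys (grExact_cosyz E n) t).isZero_one_iff_glue (flasque_xGrading (E.starInj n) t)).trans
      (glue_cosyz_iff_Hcomp E (n + 1) t)
  | j + 1, n, t => by
    rw [(exactAll_sys (grExact_cosyz E n) t).isZero_iff (flasque_xGrading (E.starInj n) t),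
      isZero_cosyz_iff_Hcomp j (n + 1) t, show n + 1 + j + 2 = n + (j + 1) + 2 by omega]

/-- **Čech cohomology of the degree parts is graded local cohomology, as far as vanishing goes.** -/
theorem isZero_iff_Hcomp : ∀ (j : ℕ) (t : ℤ),
    IsZero (H (locSys (modGrading (ι := σ) ℳ) t) (j + 1)) ↔ E.Hcomp (GrSyz.irrel (GrSyz.stdGr k σ)) (j + 2) t = ⊥
  | 0, t => ((exactAll_sys (grExact_eps E) t).isZero_one_iff_glue (flasque_xGrading (E.starInj 0) t)).trans
      (glue_cosyz_iff_Hcomp E 1 t)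
  | j + 1, t => by
    rw [(exactAll_sys (grExact_eps E) t).isZero_iff (flasque_xGrading (E.starInj 0) t),
      isZero_cosyz_iff_Hcomp E j 1 t, show 1 + j + 2 = j + 1 + 2 by omega]

end PnTildeLib

end
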